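import Cfsg.Agent.Lib.Helper16.Syl

set_option autoImplicit false
set_option linter.unusedSectionVars false
open Cfsg
open scoped Pointwise

namespace Cfsg.Agent.Lib.Helper16

section ProdCount
variable {M : Type*} [Group M] [Finite M]

theorem card_le_of_prod_surj (H K : Subgroup M) (h : ∀ x : M, ∃ a ∈ H, ∃ b ∈ K, x = a * b) :
    Nat.card M * Nat.card (H ⊓ K : Subgroup M) ≤ Nat.card H * Nat.card K := by
  classical
  choose a ha b hb hab using h
  rw [← Nat.card_prod, ← Nat.card_prod]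
  refine Nat.card_le_card_of_injective (fun xt : M × (H ⊓ K : Subgroup M) =>
    ((⟨a xt.1 * xt.2.1, H.mul_mem (ha _) xt.2.2.1⟩ : H),
      (⟨xt.2.1⁻¹ * b xt.1, K.mul_mem (K.inv_mem xt.2.2.2) (hb _)⟩ : K))) ?_
  rintro ⟨x, t⟩ ⟨y, s⟩ hxy
  simp only [Prod.mk.injEq, Subtype.mk.injEq] at hxy
  obtain ⟨h1, h2⟩ := hxy
  have hx : x = y := by
    calc x = a x * b x := hab x
      _ = (a x * t.1) * (t.1⁻¹ * b x) := by group
      _ = (a y * s.1) * (s.1⁻¹ * b y) := by rw [h1, h2]
      _ = a y * b y := by group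
      _ = y := (hab y).symm
  subst hx
  have : t.1 = s.1 := mul_left_cancel h1
  exact Prod.ext rfl (Subtype.ext this)

theorem prod_surj_of_card_le (H K : Subgroup M)
    (h : Nat.card M * Nat.card (H ⊓ K : Subgroup M) ≤ Nat.card H * Nat.card K) :
    ∀ x : M, ∃ a ∈ H, ∃ b ∈ K, x = a * b := by
  classical
  by_contra hcon
  push Not at hcon
  obtain ⟨x0, hx0⟩ := hcon
  let q : M → Prop := fun y => ∃ a ∈ H, ∃ b ∈ K, y = a * b
  have hlt : Nat.card {y // q y} < Nat.card M := Finite.card_subtype_lt (x := x0) (by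
    rintro ⟨a, ha, b, hb, e⟩; exact hx0 a ha b hb e)
  have hle : Nat.card H * Nat.card K ≤ Nat.card {y // q y} * Nat.card (H ⊓ K : Subgroup M) := by
    choose a ha b hb hab using (fun y : {y // q y} => y.2)
    let Y : H × K → {y // q y} := fun hk => ⟨hk.1.1 * hk.2.1, hk.1.1, hk.1.2, hk.2.1, hk.2.2, rfl⟩
    have key : ∀ hk : H × K, (a (Y hk))⁻¹ * hk.1.1 ∈ H ⊓ K := by
      intro hk
      refine ⟨H.mul_mem (H.inv_mem (ha _)) hk.1.2, ?_⟩
      have e : hk.1.1 * hk.2.1 = a (Y hk) * b (Y hk) := hab (Y hk)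
      have : (a (Y hk))⁻¹ * hk.1.1 = b (Y hk) * (hk.2.1)⁻¹ := by
        calc (a (Y hk))⁻¹ * hk.1.1 = (a (Y hk))⁻¹ * (hk.1.1 * hk.2.1) * (hk.2.1)⁻¹ := by group
          _ = (a (Y hk))⁻¹ * (a (Y hk) * b (Y hk)) * (hk.2.1)⁻¹ := by rw [e]
          _ = _ := by group
      rw [this]
      exact K.mul_mem (hb _) (K.inv_mem hk.2.2)
    rw [← Nat.card_prod, ← Nat.card_prod]
    refine Nat.card_le_card_of_injective (fun hk : H × K =>
      (Y hk, (⟨(a (Y hk))⁻¹ * hk.1.1, key hk⟩ : (H ⊓ K : Subgroup M)))) ?_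
    intro hk hk' hxy
    simp only [Prod.mk.injEq, Subtype.mk.injEq] at hxy
    obtain ⟨h1, h2⟩ := hxy
    rw [h1] at h2
    have e1 : hk.1.1 = hk'.1.1 := mul_left_cancel h2
    have e2 : hk.1.1 * hk.2.1 = hk'.1.1 * hk'.2.1 := congrArg Subtype.val h1
    rw [e1] at e2
    have e3 : hk.2.1 = hk'.2.1 := mul_left_cancel e2
    exact Prod.ext (Subtype.ext e1) (Subtype.ext e3)
  have hpos : 0 < Nat.card (H ⊓ K : Subgroup M) := Nat.card_pos
  have := Nat.mul_lt_mul_of_pos_right hlt hpos
  omega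

end ProdCount

section Z2
variable {Q : Type*} [Group Q] [Finite Q]

theorem exists_second_center (p : ℕ) [Fact p.Prime] (hQ : IsPGroup p Q) :
    (∀ g h : Q, g * h = h * g) ∨
      ∃ e : Q, (∃ h, e * h ≠ h * e) ∧ ∀ h, e * h * e⁻¹ * h⁻¹ ∈ Subgroup.center Q := by
  classical
  by_cases hc : Subgroup.center Q = ⊤
  · left
    intro g h
    have : h ∈ Subgroup.center Q := hc ▸ Subgroup.mem_top h
    exact Subgroup.mem_center_iff.mp this g
  · right
    have hnt : Nontrivial (Q ⧸ Subgroup.center Q) := by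
      obtain ⟨g, hg⟩ : ∃ g, g ∉ Subgroup.center Q := by
        by_contra hcon
        push Not at hcon
        exact hc ((Subgroup.eq_top_iff' _).mpr hcon)
      exact ⟨⟨QuotientGroup.mk g, 1, fun h => hg ((QuotientGroup.eq_one_iff g).mp h)⟩⟩
    have hq : IsPGroup p (Q ⧸ Subgroup.center Q) := hQ.to_quotient _
    have hcn : Nontrivial (Subgroup.center (Q ⧸ Subgroup.center Q)) := hq.center_nontrivial
    obtain ⟨⟨z, hz⟩, hz1⟩ := exists_ne (1 : Subgroup.center (Q ⧸ Subgroup.center Q))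
    obtain ⟨e, rfl⟩ := QuotientGroup.mk_surjective z
    have he : e ∉ Subgroup.center Q := by
      intro he
      apply hz1
      apply Subtype.ext
      exact (QuotientGroup.eq_one_iff e).mpr he
    refine ⟨e, ?_, ?_⟩
    · by_contra hcon
      push Not at hcon
      exact he (Subgroup.mem_center_iff.mpr fun h => (hcon h).symm)
    · intro h
      rw [← QuotientGroup.eq_one_iff]
      have := Subgroup.mem_center_iff.mp hz (QuotientGroup.mk h)
      simp only [QuotientGroup.mk_mul, QuotientGroup.mk_inv]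
      rw [← this]
      group

end Z2

section Core
variable {M : Type*} [Group M]

/-- fixed points of an automorphism -/
def fixSub (g : MulAut M) : Subgroup M where
  carrier := {x | g x = x}
  mul_mem' := by
    intro a b ha hb
    show g (a * b) = a * b
    rw [map_mul, show g a = a from ha, show g b = b from hb]
  one_mem' := map_one g
  inv_mem' := by
    intro a ha
    show g a⁻¹ = a⁻¹
    rw [map_inv, show g a = a from ha]

theorem mem_fixSub {g : MulAut M} {x : M} : x ∈ fixSub g ↔ g x = x := Iff.rfl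

theorem card_fixSub_conj (e g : MulAut M) :
    Nat.card (fixSub (e * g * e⁻¹)) = Nat.card (fixSub g) := by
  refine Nat.card_congr
    { toFun := fun x => ⟨e⁻¹ x.1, ?_⟩
      invFun := fun y => ⟨e y.1, ?_⟩
      left_inv := ?_
      right_inv := ?_ }
  · have hx : (e * g * e⁻¹) x.1 = x.1 := x.2
    show g (e⁻¹ x.1) = e⁻¹ x.1
    have : e (g (e⁻¹ x.1)) = x.1 := hx
    apply e.injective
    rw [this]
    simp
  · have hy : g y.1 = y.1 := y.2
    show (e * g * e⁻¹) (e y.1) = e y.1
    simp [MulAut.mul_apply, hy]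
  · intro x; apply Subtype.ext; simp
  · intro y; apply Subtype.ext; simp

variable [Finite M]

theorem gm_core (p : ℕ) [Fact p.Prime] (hp3 : 3 ≤ p) (hcop : (Nat.card M).Coprime p)
    (A : Subgroup (MulAut M)) (hA : IsPGroup p A) (C D : Set (MulAut M))
    (hC : Subgroup.closure C = A) (hD : Subgroup.closure D = A)
    (hfac : ∀ c ∈ C, ∀ d ∈ D, ∀ x : M, ∃ y b, x = y * b ∧ d y = y ∧ c b = b)
    (hmin : ∀ M' : Subgroup M, (∀ g ∈ A, ∀ x ∈ M', g x ∈ M') → M' ≠ ⊤ →
      ∀ g ∈ A, ∀ x ∈ M', g x = x) : A = ⊥ := by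
  classical
  by_contra hne
  have hpodd : Odd p := (Fact.out : p.Prime).odd_of_ne_two (by omega)
  let Z1 : Subgroup M := ⨅ g ∈ A, fixSub g
  have hZ1 : ∀ x, x ∈ Z1 ↔ ∀ g ∈ A, g x = x := by
    intro x
    simp only [Z1, Subgroup.mem_iInf, mem_fixSub]
  have hZ1ne : Z1 ≠ ⊤ := by
    intro h
    apply hne
    rw [Subgroup.eq_bot_iff_forall]
    intro g hg
    ext x
    exact (hZ1 x).mp (h ▸ Subgroup.mem_top x) g hg
  set m := Nat.card M with hm
  set z := Nat.card Z1 with hz
  have hzm : z < m := by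
    by_contra hcon
    exact hZ1ne (Subgroup.eq_top_of_le_card _ (not_lt.mp hcon))
  have hzpos : 0 < z := Nat.card_pos
  have hcent : ∀ w ∈ A, (∀ h ∈ A, h * w = w * h) → w ≠ 1 → fixSub w ≤ Z1 := by
    intro w hw hwc hw1 x hx
    rw [hZ1]
    refine fun g hg => hmin (fixSub w) ?_ ?_ g hg x hx
    · intro h hh y hy
      show w (h y) = h y
      have : (w * h) y = (h * w) y := by rw [hwc h hh]
      have this' : w (h y) = h (w y) := this
      rw [show w y = y from hy] at this'
      exact this'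
    · intro htop
      apply hw1
      ext y
      exact (htop ▸ Subgroup.mem_top y : y ∈ fixSub w)
  have hsq : ∀ w ∈ A, w ≠ 1 → w * w ≠ 1 := by
    intro w hw hw1 hww
    obtain ⟨k, hk⟩ := hA ⟨w, hw⟩
    have hk' : w ^ (p ^ k) = 1 := by
      have := congrArg Subtype.val hk
      simpa using this
    obtain ⟨j, hj⟩ := hpodd.pow (n := k)
    apply hw1
    have h2 : w ^ (2 * j) = 1 := by rw [pow_mul, pow_two, hww, one_pow]
    rw [hj, pow_succ, h2, one_mul] at hk'
    exact hk'
  have hcoset : ∀ s ∈ A, ∀ x t : M, t ∈ Z1 → s x = x * t → s x = x := by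
    intro s hs x t ht hsx
    have hst : s t = t := (hZ1 t).mp ht s hs
    have hpow : ∀ k : ℕ, (s ^ k) x = x * t ^ k := by
      intro k
      induction k with
      | zero => simp
      | succ k ih =>
        rw [pow_succ', MulAut.mul_apply, ih, map_mul, map_pow, hsx, hst, pow_succ', mul_assoc]
    obtain ⟨k, hk⟩ := hA ⟨s, hs⟩
    have hk' : s ^ (p ^ k) = 1 := by
      have := congrArg Subtype.val hk
      simpa using this
    have h1 := hpow (p ^ k)
    rw [hk', MulAut.one_apply] at h1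
    have ht1 : t ^ (p ^ k) = 1 := by
      have : x * 1 = x * t ^ (p ^ k) := by rw [mul_one]; exact h1
      exact (mul_left_cancel this).symm
    have ht2 : t ^ m = 1 := pow_card_eq_one'
    have hd1 := orderOf_dvd_of_pow_eq_one ht1
    have hd2 := orderOf_dvd_of_pow_eq_one ht2
    have hco : (m).Coprime (p ^ k) := hcop.pow_right k
    have : orderOf t = 1 := Nat.eq_one_of_dvd_coprimes hco hd2 hd1
    rw [orderOf_eq_one_iff] at this
    rw [hsx, this, mul_one]
  have hZfix : ∀ g ∈ A, Z1 ≤ fixSub g := fun g hg x hx => (hZ1 x).mp hx g hg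
  -- the key estimate
  have hgood : ∃ B : Subgroup (MulAut M), ¬ A ≤ B ∧
      ∀ g ∈ A, g ∉ B → Nat.card (fixSub g) ^ 2 < m * z := by
    rcases exists_second_center p hA with hab | ⟨⟨e, heA⟩, ⟨⟨h0, hh0A⟩, hh0⟩, he2⟩
    · refine ⟨⊥, fun h => hne (le_bot_iff.mp h), ?_⟩
      intro g hg hgB
      have hg1 : g ≠ 1 := fun h => hgB (Subgroup.mem_bot.mpr h)
      have hle : fixSub g ≤ Z1 := hcent g hg (fun h hh => by
        have := hab ⟨h, hh⟩ ⟨g, hg⟩
        exact congrArg Subtype.val this) hg1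
      have hc : Nat.card (fixSub g) ≤ z := Subgroup.card_le_of_le hle
      calc Nat.card (fixSub g) ^ 2 ≤ z ^ 2 := Nat.pow_le_pow_left hc 2
        _ = z * z := by ring
        _ < m * z := Nat.mul_lt_mul_of_pos_right hzm hzpos
    · refine ⟨Subgroup.centralizer {e}, ?_, ?_⟩
      · intro hle
        apply hh0
        apply Subtype.ext
        have := Subgroup.mem_centralizer_singleton_iff.mp (hle hh0A)
        exact this.symm
      · intro g hg hgB
        obtain ⟨w, hw⟩ : ∃ w : MulAut M, w = e * g * e⁻¹ * g⁻¹ := ⟨_, rfl⟩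
        have hwA : w ∈ A := by
          rw [hw]
          exact A.mul_mem (A.mul_mem (A.mul_mem heA hg) (A.inv_mem heA)) (A.inv_mem hg)
        have hwc : ∀ h ∈ A, h * w = w * h := by
          intro h hh
          have := Subgroup.mem_center_iff.mp (he2 ⟨g, hg⟩) ⟨h, hh⟩
          rw [hw]
          exact congrArg Subtype.val this
        have hw1 : w ≠ 1 := by
          intro h1
          apply hgB
          rw [Subgroup.mem_centralizer_singleton_iff]
          have : e * g = g * e := by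
            calc e * g = (e * g * e⁻¹ * g⁻¹) * (g * e) := by group
              _ = g * e := by rw [← hw, h1, one_mul]
          exact this.symm
        have hww1 : w * w ≠ 1 := hsq w hwA hw1
        have hwwA : w * w ∈ A := A.mul_mem hwA hwA
        have hwwc : ∀ h ∈ A, h * (w * w) = (w * w) * h := by
          intro h hh
          calc h * (w * w) = (h * w) * w := by group
            _ = (w * h) * w := by rw [hwc h hh]
            _ = w * (h * w) := by group
            _ = w * (w * h) := by rw [hwc h hh]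
            _ = w * w * h := by group
        have hF1 : w * g = e * g * e⁻¹ := by rw [hw]; group
        have hF2 : w * w * g = e * (w * g) * e⁻¹ := by
          calc w * w * g = w * (w * g) := by group
            _ = w * (e * g * e⁻¹) := by rw [hF1]
            _ = (w * e) * g * e⁻¹ := by group
            _ = (e * w) * g * e⁻¹ := by rw [hwc e heA]
            _ = e * (w * g) * e⁻¹ := by group
        have hc1 : Nat.card (fixSub (w * g)) = Nat.card (fixSub g) := by
          rw [hF1]; exact card_fixSub_conj e g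
        have hc2 : Nat.card (fixSub (w * w * g)) = Nat.card (fixSub g) := by
          rw [hF2, card_fixSub_conj e (w * g), hc1]
        have hint : fixSub g ⊓ fixSub (w * g) ≤ Z1 := by
          rintro x ⟨hx0, hx1⟩
          apply hcent w hwA hwc hw1
          show w x = x
          have h0 : g x = x := hx0
          have h1 : w (g x) = x := hx1
          rw [h0] at h1
          exact h1
        by_contra hcon
        rw [not_lt] at hcon
        have hsurj := prod_surj_of_card_le (fixSub g) (fixSub (w * g)) (by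
          calc Nat.card M * Nat.card (fixSub g ⊓ fixSub (w * g) : Subgroup M)
              ≤ m * z := Nat.mul_le_mul_left _ (Subgroup.card_le_of_le hint)
            _ ≤ Nat.card (fixSub g) ^ 2 := hcon
            _ = Nat.card (fixSub g) * Nat.card (fixSub (w * g)) := by rw [hc1]; ring)
        have hK4 : fixSub (w * w * g) ≤ Z1 := by
          intro v hv
          obtain ⟨a0, ha0, a1, ha1, rfl⟩ := hsurj v
          have h0 : g a0 = a0 := ha0
          have h1 : w (g a1) = a1 := ha1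
          have hv' : (w * w * g) (a0 * a1) = a0 * a1 := hv
          have e0 : (w * w * g) a0 = (w * w) a0 := by
            show (w * w) (g a0) = (w * w) a0
            rw [h0]
          have e1 : (w * w * g) a1 = w a1 := by
            show w (w (g a1)) = w a1
            rw [h1]
          rw [map_mul, e0, e1] at hv'
          set t : M := a0⁻¹ * (w * w) a0 with ht
          have ht' : t = a1 * (w a1)⁻¹ := by
            calc t = a0⁻¹ * ((w * w) a0 * w a1) * (w a1)⁻¹ := by rw [ht]; group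
              _ = a0⁻¹ * (a0 * a1) * (w a1)⁻¹ := by rw [hv']
              _ = _ := by group
          have htZ : t ∈ Z1 := by
            apply hint
            constructor
            · rw [ht]
              refine (fixSub g).mul_mem ((fixSub g).inv_mem ha0) ?_
              show g ((w * w) a0) = (w * w) a0
              have : (g * (w * w)) a0 = ((w * w) * g) a0 := by rw [hwwc g hg]
              have this' : g ((w * w) a0) = (w * w) (g a0) := this
              rw [h0] at this'
              exact this'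
            · rw [ht']
              refine (fixSub (w * g)).mul_mem ha1 ((fixSub (w * g)).inv_mem ?_)
              show (w * g) (w a1) = w a1
              have : ((w * g) * w) a1 = (w * (w * g)) a1 := by
                rw [hwc (w * g) (A.mul_mem hwA hg)]
              have this' : (w * g) (w a1) = w (w (g a1)) := this
              rw [h1] at this'
              exact this'
          have hs0 : (w * w) a0 = a0 := hcoset (w * w) hwwA a0 t htZ (by rw [ht]; group)
          have hs1 : w a1⁻¹ = a1⁻¹ := hcoset w hwA a1⁻¹ t htZ (by rw [ht', map_inv]; group)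
          have hz0 : a0 ∈ Z1 := hcent (w * w) hwwA hwwc hww1 hs0
          have hz1 : a1⁻¹ ∈ Z1 := hcent w hwA hwc hw1 hs1
          exact Z1.mul_mem hz0 (by simpa using Z1.inv_mem hz1)
        have hle : Nat.card (fixSub g) ≤ z := by
          rw [← hc2]; exact Subgroup.card_le_of_le hK4
        have : m * z ≤ z * z := by
          calc m * z ≤ Nat.card (fixSub g) ^ 2 := hcon
            _ ≤ z ^ 2 := Nat.pow_le_pow_left hle 2
            _ = z * z := by ring
        have := Nat.le_of_mul_le_mul_right this hzpos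
        omega
  obtain ⟨B, hAB, hB⟩ := hgood
  have hexC : ∃ c ∈ C, c ∉ B := by
    by_contra hcon
    push Not at hcon
    exact hAB (hC ▸ (Subgroup.closure_le B).mpr hcon)
  have hexD : ∃ d ∈ D, d ∉ B := by
    by_contra hcon
    push Not at hcon
    exact hAB (hD ▸ (Subgroup.closure_le B).mpr hcon)
  obtain ⟨c, hcC, hcB⟩ := hexC
  obtain ⟨d, hdD, hdB⟩ := hexD
  have hcA : c ∈ A := hC ▸ Subgroup.subset_closure hcC
  have hdA : d ∈ A := hD ▸ Subgroup.subset_closure hdD
  have h1 := hB c hcA hcB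
  have h2 := hB d hdA hdB
  have h3 := card_le_of_prod_surj (fixSub d) (fixSub c) (by
    intro x
    obtain ⟨y, b, hx, hy, hb⟩ := hfac c hcC d hdD x
    exact ⟨y, hy, b, hb, hx⟩)
  have h4 : z ≤ Nat.card (fixSub d ⊓ fixSub c : Subgroup M) :=
    Subgroup.card_le_of_le (le_inf (hZfix d hdA) (hZfix c hcA))
  have h5 : m * z ≤ Nat.card (fixSub d) * Nat.card (fixSub c) :=
    le_trans (Nat.mul_le_mul_left _ h4) h3
  have h6 : (m * z) ^ 2 ≤ Nat.card (fixSub d) ^ 2 * Nat.card (fixSub c) ^ 2 := by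
    rw [← mul_pow]; exact Nat.pow_le_pow_left h5 2
  have h7 : Nat.card (fixSub d) ^ 2 * Nat.card (fixSub c) ^ 2 < (m * z) * (m * z) :=
    Nat.mul_lt_mul'' h2 h1
  have h8 : (m * z) ^ 2 = (m * z) * (m * z) := by ring
  omega

end Core

section Transfer
variable {G : Type*} [Group G]

theorem exists_mul_of_mem_sup_nz {N W : Subgroup G} (h : W ≤ Subgroup.normalizer (N : Set G)) {x : G}
    (hx : x ∈ N ⊔ W) : ∃ n ∈ N, ∃ w ∈ W, x = n * w := by
  rw [Subgroup.sup_eq_closure] at hx
  induction hx using Subgroup.closure_induction with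
  | mem y hy =>
    rcases hy with hy | hy
    · exact ⟨y, hy, 1, W.one_mem, by simp⟩
    · exact ⟨1, N.one_mem, y, hy, by simp⟩
  | one => exact ⟨1, N.one_mem, 1, W.one_mem, by simp⟩
  | mul a b _ _ ha hb =>
    obtain ⟨n₁, hn₁, w₁, hw₁, rfl⟩ := ha
    obtain ⟨n₂, hn₂, w₂, hw₂, rfl⟩ := hb
    refine ⟨n₁ * (w₁ * n₂ * w₁⁻¹), N.mul_mem hn₁ ((Subgroup.mem_normalizer_iff.mp (h hw₁) _).mp hn₂),
      w₁ * w₂, W.mul_mem hw₁ hw₂, by group⟩
  | inv a _ ha =>
    obtain ⟨n, hn, w, hw, rfl⟩ := ha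
    refine ⟨w⁻¹ * n⁻¹ * w⁻¹⁻¹,
      (Subgroup.mem_normalizer_iff.mp (h (W.inv_mem hw)) _).mp (N.inv_mem hn), w⁻¹, W.inv_mem hw,
      by group⟩

variable [Finite G]

theorem gm_pnilpotent (p : ℕ) [Fact p.Prime] (hp3 : 3 ≤ p) (P : Sylow p G)
    (N : Subgroup G) [N.Normal] (hN : (Nat.card N).Coprime p)
    (C D : Set G) (hC : Subgroup.closure C = (P : Subgroup G))
    (hD : Subgroup.closure D = (P : Subgroup G))
    (h : ∀ x ∈ N, ∀ c ∈ C, ∀ d ∈ D,
      IsPGroup p ↥(Subgroup.closure ({x * c * x⁻¹, d} : Set G))) :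
    ⁅(P : Subgroup G), N⁆ = ⊥ := by
  classical
  by_contra hcon
  obtain ⟨Pg, hPg⟩ : ∃ Pg : Subgroup G, Pg = (P : Subgroup G) := ⟨_, rfl⟩
  rw [← hPg] at hC hD hcon
  have hPp : IsPGroup p Pg := hPg ▸ P.isPGroup'
  have hPsyl : SylIn p Pg ⊤ := hPg ▸ sylIn_top P
  let F : Set (Subgroup G) := {M | M ≤ N ∧ Pg ≤ Subgroup.normalizer (M : Set G) ∧
    ¬ (∀ g ∈ Pg, ∀ x ∈ M, g * x * g⁻¹ = x)}
  have hNF : N ∈ F := by
    refine ⟨le_rfl, ?_, ?_⟩
    · rw [Subgroup.normalizer_eq_top]; exact le_top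
    · intro hall
      apply hcon
      rw [Subgroup.commutator_eq_bot_iff_le_centralizer]
      intro g hg
      rw [Subgroup.mem_centralizer_iff]
      intro x hx
      have := hall g hg x hx
      calc x * g = (g * x * g⁻¹) * g := by rw [this]
        _ = g * x := by group
  obtain ⟨M, hMmin⟩ := (Set.toFinite F).exists_minimal ⟨N, hNF⟩
  obtain ⟨⟨hMN, hPM, hMnc⟩, hmin'⟩ := hMmin
  have hcopM : (Nat.card M).Coprime p := Nat.Coprime.coprime_dvd_left (Subgroup.card_dvd_of_le hMN) hN
  have hMP : M ⊓ Pg = ⊥ := by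
    obtain ⟨k, hk⟩ := IsPGroup.iff_card.mp hPp
    apply Subgroup.inf_eq_bot_of_coprime
    rw [hk]; exact hcopM.pow_right k
  have hconjM : ∀ g ∈ Pg, ∀ x ∈ M, g * x * g⁻¹ ∈ M := fun g hg x hx =>
    (Subgroup.mem_normalizer_iff.mp (hPM hg) x).mp hx
  have hS : ∀ g ∈ Pg, ∀ b ∈ M, b * g * b⁻¹ ∈ Pg → g * b * g⁻¹ = b := by
    intro g hg b hb hbg
    have h1 : b * g * b⁻¹ * g⁻¹ ∈ M ⊓ Pg := by
      refine ⟨?_, Pg.mul_mem hbg (Pg.inv_mem hg)⟩
      have : b * g * b⁻¹ * g⁻¹ = b * (g * b⁻¹ * g⁻¹) := by group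
      rw [this]
      exact M.mul_mem hb (hconjM g hg _ (M.inv_mem hb))
    rw [hMP, Subgroup.mem_bot] at h1
    calc g * b * g⁻¹ = (b * g * b⁻¹ * g⁻¹)⁻¹ * b := by group
      _ = b := by rw [h1]; group
  have hCP : ∀ c ∈ C, c ∈ Pg := fun c hc => hC ▸ Subgroup.subset_closure hc
  have hDP : ∀ d ∈ D, d ∈ Pg := fun d hd => hD ▸ Subgroup.subset_closure hd
  -- Step 1: factorisation
  have hstep1 : ∀ c ∈ C, ∀ d ∈ D, ∀ x ∈ M, ∃ y ∈ M, ∃ b ∈ M, x = y * b ∧
      d * y * d⁻¹ = y ∧ c * b * c⁻¹ = b := by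
    intro c hc d hd x hx
    have hR := h x (hMN hx) c hc d hd
    have hsyl : SylIn p Pg (M ⊔ Pg) := hPsyl.mono le_sup_right le_top
    have hRL : Subgroup.closure ({x * c * x⁻¹, d} : Set G) ≤ M ⊔ Pg := by
      rw [Subgroup.closure_le]
      intro t ht
      rcases ht with rfl | rfl
      · have hxL : x ∈ M ⊔ Pg := Subgroup.mem_sup_left hx
        exact (M ⊔ Pg).mul_mem ((M ⊔ Pg).mul_mem hxL (Subgroup.mem_sup_right (hCP c hc)))
          ((M ⊔ Pg).inv_mem hxL)
      · exact Subgroup.mem_sup_right (hDP _ hd)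
    obtain ⟨l, hl, hRl⟩ := hsyl.exists_conj_le hR hRL
    obtain ⟨y, hy, u, hu, hlu⟩ := exists_mul_of_mem_sup_nz hPM ((M ⊔ Pg).inv_mem hl)
    have hl' : l = u⁻¹ * y⁻¹ := by
      calc l = (l⁻¹)⁻¹ := by group
        _ = (y * u)⁻¹ := by rw [hlu]
        _ = _ := by group
    have hmemP : ∀ t ∈ Subgroup.closure ({x * c * x⁻¹, d} : Set G), y⁻¹ * t * y ∈ Pg := by
      intro t ht
      have h1 : l * t * l⁻¹ ∈ Pg := hRl (Subgroup.mem_map.mpr ⟨t, ht, by simp [MulAut.conj_apply]⟩)
      have h2 : y⁻¹ * t * y = u * (l * t * l⁻¹) * u⁻¹ := by rw [hl']; group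
      rw [h2]
      exact Pg.mul_mem (Pg.mul_mem hu h1) (Pg.inv_mem hu)
    have hd1 := hmemP d (Subgroup.subset_closure (by simp))
    have hc1 := hmemP (x * c * x⁻¹) (Subgroup.subset_closure (by simp))
    have hd2 : d * y⁻¹ * d⁻¹ = y⁻¹ := hS d (hDP d hd) y⁻¹ (M.inv_mem hy) (by simpa using hd1)
    have hc2 : c * (y⁻¹ * x) * c⁻¹ = y⁻¹ * x :=
      hS c (hCP c hc) (y⁻¹ * x) (M.mul_mem (M.inv_mem hy) hx) (by
        have : y⁻¹ * x * c * (y⁻¹ * x)⁻¹ = y⁻¹ * (x * c * x⁻¹) * y := by group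
        rw [this]; exact hc1)
    refine ⟨y, hy, y⁻¹ * x, M.mul_mem (M.inv_mem hy) hx, by group, ?_, hc2⟩
    calc d * y * d⁻¹ = (d * y⁻¹ * d⁻¹)⁻¹ := by group
      _ = y := by rw [hd2]; group
  -- pass to automorphisms of M
  obtain ⟨Nm, hNm⟩ : ∃ Nm : Subgroup G, Nm = Subgroup.normalizer (M : Set G) := ⟨_, rfl⟩
  subst hNm
  let α : ↥(Subgroup.normalizer (M : Set G)) →* MulAut ↥M := M.normalizerMonoidHom
  have hα : ∀ (g : ↥(Subgroup.normalizer (M : Set G))) (x : ↥M),
      ((α g x : ↥M) : G) = g.1 * x.1 * g.1⁻¹ := fun _ _ => rfl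
  let P' : Subgroup ↥(Subgroup.normalizer (M : Set G)) := Pg.subgroupOf _
  have hclos : ∀ S : Set G, Subgroup.closure S = Pg →
      Subgroup.closure (α '' (Subtype.val ⁻¹' S)) = P'.map α := by
    intro S hS'
    rw [← MonoidHom.map_closure]
    congr 1
    apply Subgroup.map_injective (Subgroup.subtype_injective _)
    rw [MonoidHom.map_closure, Subgroup.subgroupOf_map_subtype, inf_of_le_left hPM]
    have : (Subgroup.normalizer (M : Set G)).subtype '' (Subtype.val ⁻¹' S) = S := by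
      ext t
      constructor
      · rintro ⟨s, hs, rfl⟩; exact hs
      · intro ht
        exact ⟨⟨t, hPM (hS' ▸ Subgroup.subset_closure ht)⟩, ht, rfl⟩
    rw [this, hS']
  have hAp : IsPGroup p (P'.map α) := (hPp.comap_subtype).map α
  have hAbot := gm_core p hp3 hcopM (P'.map α) hAp _ _ (hclos C hC) (hclos D hD) (by
      rintro _ ⟨c, hc, rfl⟩ _ ⟨d, hd, rfl⟩ x
      obtain ⟨y, hy, b, hb, hxy, hdy, hcb⟩ := hstep1 c.1 hc d.1 hd x.1 x.2
      exact ⟨⟨y, hy⟩, ⟨b, hb⟩, Subtype.ext hxy, Subtype.ext (by rw [hα]; exact hdy),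
        Subtype.ext (by rw [hα]; exact hcb)⟩) (by
      intro M' hinv hne
      by_contra hnc
      have hstab : ∀ g ∈ Pg, ∀ t ∈ M'.map M.subtype, g * t * g⁻¹ ∈ M'.map M.subtype := by
        rintro g hg _ ⟨x, hx, rfl⟩
        exact ⟨α ⟨g, hPM hg⟩ x, hinv _ (Subgroup.mem_map.mpr ⟨⟨g, hPM hg⟩, hg, rfl⟩) x hx, rfl⟩
      have hF : M'.map M.subtype ∈ F := by
        refine ⟨(Subgroup.map_subtype_le M').trans hMN, ?_, ?_⟩
        · intro g hg
          rw [Subgroup.mem_normalizer_iff]
          intro t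
          refine ⟨hstab g hg t, fun ht => ?_⟩
          have := hstab g⁻¹ (Pg.inv_mem hg) _ ht
          have e : g⁻¹ * (g * t * g⁻¹) * g⁻¹⁻¹ = t := by group
          rwa [e] at this
        · intro hall
          apply hnc
          rintro _ ⟨g, hg, rfl⟩ x hx
          apply Subtype.ext
          rw [hα]
          exact hall g.1 hg x.1 ⟨x, hx, rfl⟩
      have hle := hmin' hF (Subgroup.map_subtype_le M')
      apply hne
      rw [Subgroup.eq_top_iff']
      intro x
      obtain ⟨y, hy, hyx⟩ := hle x.2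
      have : y = x := Subtype.ext hyx
      exact this ▸ hy)
  apply hMnc
  intro g hg x hx
  have h1 : α ⟨g, hPM hg⟩ ∈ P'.map α := Subgroup.mem_map.mpr ⟨⟨g, hPM hg⟩, hg, rfl⟩
  rw [hAbot, Subgroup.mem_bot] at h1
  have h2 := hα ⟨g, hPM hg⟩ ⟨x, hx⟩
  rw [h1] at h2
  exact h2.symm

end Transfer

end Cfsg.Agent.Lib.Helper16
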