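import Cfsg.Agent.Lib.Helper16.ZL
import Cfsg.Agent.Lib.Helper16.Large

set_option autoImplicit false
set_option linter.unusedSectionVars false
open Cfsg
open Cfsg.Agent.Lib.Helper8 (SubnIn subnIn_top)
open scoped commutatorElement

namespace Cfsg.Agent.Lib.Helper16

variable {G : Type*} [Group G]

section
variable [Finite G] {p : ℕ} [hp : Fact p.Prime] {X T N L : Subgroup G}

theorem omegaCenter_le_of_charP (hX : CharP p X) (hT : SylIn p T X) :
    omegaOne p (T ⊓ Subgroup.centralizer (T : Set G)) ≤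
      omegaOne p (pCoreOf p X ⊓ Subgroup.centralizer (pCoreOf p X : Set G)) := by
  intro z hz
  obtain ⟨h1, h2, h3⟩ := mem_omegaCenter_iff.mp hz
  have h4 : z ∈ Subgroup.centralizer (pCoreOf p X : Set G) :=
    Subgroup.centralizer_le (by exact_mod_cast pCoreOf_le_sylIn hT) h2
  exact mem_omegaCenter_iff.mpr ⟨hX ⟨hT.1 h1, h4⟩, h4, h3⟩

theorem kieler_A (hX : CharP p X) (hT : SylIn p T X) (hNX : N ≤ X)
    (hn : X ≤ Subgroup.normalizer (N : Set G)) :
    N ⊓ Subgroup.centralizer (omegaOne p ((T ⊓ N) ⊓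
        Subgroup.centralizer ((T ⊓ N : Subgroup G) : Set G)) : Set G) ≤
      Subgroup.centralizer (omegaOne p (T ⊓ Subgroup.centralizer (T : Set G)) : Set G) := by
  set Z₀ := omegaOne p ((T ⊓ N) ⊓ Subgroup.centralizer ((T ⊓ N : Subgroup G) : Set G)) with hZ₀
  set C := N ⊓ Subgroup.centralizer (Z₀ : Set G) with hC
  have hTN : T ≤ Subgroup.normalizer (N : Set G) := hT.1.trans hn
  have hTZ₀ : T ≤ Subgroup.normalizer (Z₀ : Set G) :=
    (le_normalizer_inf Subgroup.le_normalizer hTN).trans (normalizer_le_normalizer_omegaCenter p _)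
  have hTC : T ≤ Subgroup.normalizer (C : Set G) :=
    le_normalizer_inf hTN (hTZ₀.trans (normalizer_le_normalizer_centralizer Z₀))
  have hX₁X : C ⊔ T ≤ X := sup_le (inf_le_left.trans hNX) hT.1
  have hcp₁ : CharP p (C ⊔ T) := hX.of_pCoreOf_le ((pCoreOf_le_sylIn hT).trans le_sup_right) hX₁X
  have hT₁ : SylIn p T (C ⊔ T) := hT.mono le_sup_right hX₁X
  have hVe := (elemAb_iff _).mp (elemAb_omegaOne_center p (pCoreOf p (C ⊔ T)))
  have hX₁V := (le_normalizer_pCoreOf (p := p) (C ⊔ T)).trans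
    (normalizer_le_normalizer_omegaCenter p (pCoreOf p (C ⊔ T)))
  intro x hx
  rw [mem_centralizer_iff_commute]
  intro z hz
  obtain ⟨hz1, hz2, hz3⟩ := mem_omegaCenter_iff.mp hz
  obtain ⟨c, hc, w, hw, e⟩ := exists_decomp (K := C ⊔ T) (S := T) hVe.1 hX₁V hT₁.2.2
    ⟨omegaCenter_le_of_charP hcp₁ hT₁ hz, hz2⟩ hz3 N (by
      intro k hk
      obtain ⟨r, hr, t, ht, rfl⟩ := exists_mul_of_mem_sup hTC hk
      have e1 : t * z * t⁻¹ = z := by
        rw [(mem_centralizer_iff_commute.mp hz2 t ht).symm.eq, mul_inv_cancel_right]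
      have e2 : r * t * z * (r * t)⁻¹ * z⁻¹ = r * (t * z * t⁻¹) * r⁻¹ * z⁻¹ := by group
      rw [e2, e1]
      have h1 := conj_mem_of_le_normalizer hTN hz1 (N.inv_mem hr.1)
      have := N.mul_mem hr.1 h1
      simpa [mul_assoc] using this)
  have hcx : Commute x c := (mem_centralizer_iff_commute.mp hc.2 x ((le_sup_left : C ≤ C ⊔ T) hx)).symm
  have hwz : w = c⁻¹ * z := by rw [e]; simp
  have hwT : w ∈ Subgroup.centralizer (T : Set G) := by
    rw [hwz]
    exact Subgroup.mul_mem _ (Subgroup.inv_mem _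
      (Subgroup.centralizer_le (by exact_mod_cast (le_sup_right : T ≤ C ⊔ T)) hc.2)) hz2
  have hwT' : w ∈ T := pCoreOf_le_sylIn hT₁ ((omegaOne_le _ _ hw.2).1)
  have hwZ₀ : w ∈ Z₀ := mem_omegaCenter_iff.mpr ⟨⟨hwT', hw.1⟩,
    Subgroup.centralizer_le (by exact_mod_cast (inf_le_left : T ⊓ N ≤ T)) hwT, hVe.2 w hw.2⟩
  rw [e]
  exact hcx.mul_right (mem_centralizer_iff_commute.mp hx.2 w hwZ₀)

theorem kieler_B (hX : CharP p X) (hT : SylIn p T X) (hNX : N ≤ X)
    (hn : X ≤ Subgroup.normalizer (N : Set G)) :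
    N ⊓ Subgroup.centralizer (omegaOne p (T ⊓ Subgroup.centralizer (T : Set G)) : Set G) ≤
      Subgroup.centralizer (omegaOne p ((T ⊓ N) ⊓
        Subgroup.centralizer ((T ⊓ N : Subgroup G) : Set G)) : Set G) := by
  set Z := omegaOne p (T ⊓ Subgroup.centralizer (T : Set G)) with hZ
  set Z₀ := omegaOne p ((T ⊓ N) ⊓ Subgroup.centralizer ((T ⊓ N : Subgroup G) : Set G)) with hZ₀
  set C := N ⊓ Subgroup.centralizer (Z : Set G) with hC
  have hTN : T ≤ Subgroup.normalizer (N : Set G) := hT.1.trans hn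
  have hTT₀ : T ≤ Subgroup.normalizer ((T ⊓ N : Subgroup G) : Set G) :=
    le_normalizer_inf Subgroup.le_normalizer hTN
  have hTZ₀ : T ≤ Subgroup.normalizer (Z₀ : Set G) :=
    hTT₀.trans (normalizer_le_normalizer_omegaCenter p _)
  have hTZ : T ≤ Subgroup.normalizer (Z : Set G) :=
    Subgroup.le_normalizer.trans (normalizer_le_normalizer_omegaCenter p _)
  have hTC : T ≤ Subgroup.normalizer (C : Set G) :=
    le_normalizer_inf hTN (hTZ.trans (normalizer_le_normalizer_centralizer Z))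
  have hZT : Z ≤ T := (omegaOne_le _ _).trans inf_le_left
  have hZp : IsPGroup p Z := hT.2.1.to_le hZT
  have hTcZ : T ≤ Subgroup.centralizer (Z : Set G) :=
    Subgroup.le_centralizer_iff.mp ((omegaOne_le _ _).trans inf_le_right)
  have hT₀C : T ⊓ N ≤ C := le_inf inf_le_right (inf_le_left.trans hTcZ)
  have hS₀ : SylIn p (T ⊓ N) C := (hT.inf_normal hNX hn).mono hT₀C inf_le_left
  have hcpC : CharP p C := (hX.of_normal hNX hn).inf_centralizer hZp (hZT.trans hTN)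
  have hVe := (elemAb_iff _).mp (elemAb_omegaOne_center p (pCoreOf p C))
  set V := omegaOne p (pCoreOf p C ⊓ Subgroup.centralizer (pCoreOf p C : Set G)) with hVdef
  have hNCV : Subgroup.normalizer (C : Set G) ≤ Subgroup.normalizer (V : Set G) :=
    (normalizer_le_normalizer_pCoreOf C).trans (normalizer_le_normalizer_omegaCenter p (pCoreOf p C))
  have hCV : C ≤ Subgroup.normalizer (V : Set G) := Subgroup.le_normalizer.trans hNCV
  have hZ₀V : Z₀ ≤ V := omegaCenter_le_of_charP hcpC hS₀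
  have hVT₀ : V ≤ T ⊓ N := ((omegaOne_le _ _).trans inf_le_left).trans (pCoreOf_le_sylIn hS₀)
  obtain ⟨f, f1, f2, f3, _, f5⟩ := exists_trace (S := T ⊓ N) hVe.1 hCV
  obtain ⟨m, hm⟩ := exists_pow_pow_eq (G := G) hS₀.2.2
  let F : ↥V →* G := MonoidHom.mk' (fun v => f v) (fun a b => f2 a a.2 b b.2)
  have hF : ∀ v : ↥V, F v = f v := fun _ => rfl
  -- the kernel
  have hker : (F.ker.map V.subtype) ⊓ Z₀ = ⊥ := by
    by_contra hne
    have hKp : IsPGroup p ((F.ker.map V.subtype) ⊓ Z₀ : Subgroup G) :=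
      hT.2.1.to_le (inf_le_right.trans (hZ₀V.trans (hVT₀.trans inf_le_left)))
    have hTK : T ≤ Subgroup.normalizer (((F.ker.map V.subtype) ⊓ Z₀ : Subgroup G) : Set G) := by
      intro t ht
      apply mem_normalizer_of_conj_le
      rintro _ ⟨a, ⟨⟨a', ha', rfl⟩, haZ⟩, rfl⟩
      have h1 : t * (a' : G) * t⁻¹ ∈ Z₀ := conj_mem_of_le_normalizer hTZ₀ ht haZ
      refine Subgroup.mem_inf.mpr ⟨⟨⟨t * (a' : G) * t⁻¹, hZ₀V h1⟩, ?_, rfl⟩, h1⟩
      rw [SetLike.mem_coe, MonoidHom.mem_ker, hF]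
      have h2 := f5 t ⟨⟨hNCV (hTC ht), hTC ht⟩, hTT₀ ht⟩ a' ⟨a'.2, (mem_omegaCenter_iff.mp haZ).2.1⟩
      rw [SetLike.mem_coe, MonoidHom.mem_ker, hF] at ha'
      show f (t * (a' : G) * t⁻¹) = 1
      rw [h2, ha']; simp
    have h3 := inf_centralizer_ne_bot hKp hT.2.1 hTK hne
    obtain ⟨k, hk1⟩ := Subgroup.ne_bot_iff_exists_ne_one.mp h3
    obtain ⟨⟨⟨k', hk', hkk⟩, hkZ₀⟩, hkT⟩ := k.2
    have hkV : (k : G) ∈ V := hZ₀V hkZ₀
    have hkp : (k : G) ^ p = 1 := hVe.2 _ hkV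
    have hkZ : (k : G) ∈ Z := mem_omegaCenter_iff.mpr ⟨(hVT₀ hkV).1, hkT, hkp⟩
    have hkC : (k : G) ∈ Subgroup.centralizer (C : Set G) :=
      Subgroup.le_centralizer_iff.mp (inf_le_right : C ≤ Subgroup.centralizer (Z : Set G)) hkZ
    have h4 := f3 k ⟨hkV, hkC⟩
    rw [SetLike.mem_coe, MonoidHom.mem_ker, hF] at hk'
    have hkk' : (k' : G) = k := hkk
    rw [hkk', h4] at hk'
    have h5 := hm k hkp
    rw [hk', one_pow] at h5
    exact hk1 (Subtype.ext h5.symm)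
  intro x hx
  rw [mem_centralizer_iff_commute]
  intro a ha
  obtain ⟨ha1, ha2, ha3⟩ := mem_omegaCenter_iff.mp ha
  have haV : a ∈ V := hZ₀V ha
  have hb := f1 a ⟨haV, ha2⟩
  have hbZ₀ : f a ∈ Z₀ := mem_omegaCenter_iff.mpr ⟨hVT₀ hb.1,
    Subgroup.centralizer_le (by exact_mod_cast hT₀C) hb.2, hVe.2 _ hb.1⟩
  have hfb := f3 (f a) hb
  have hd : f a * (a ^ (T ⊓ N).relIndex C)⁻¹ ∈ (F.ker.map V.subtype) ⊓ Z₀ := by
    refine Subgroup.mem_inf.mpr ⟨⟨⟨f a, hb.1⟩ * (⟨a, haV⟩ ^ (T ⊓ N).relIndex C)⁻¹, ?_, by simp⟩,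
      Z₀.mul_mem hbZ₀ (Z₀.inv_mem (Z₀.pow_mem ha _))⟩
    rw [SetLike.mem_coe, MonoidHom.mem_ker, map_mul, map_inv, map_pow, hF, hF]
    show f (f a) * (f a ^ (T ⊓ N).relIndex C)⁻¹ = 1
    rw [hfb, mul_inv_cancel]
  rw [hker, Subgroup.mem_bot, mul_inv_eq_one] at hd
  have h6 : a ^ (T ⊓ N).relIndex C ∈ Subgroup.centralizer (C : Set G) := hd ▸ hb.2
  have h7 : a ∈ Subgroup.centralizer (C : Set G) := by
    rw [← hm a ha3]
    exact Subgroup.pow_mem _ h6 m
  exact (mem_centralizer_iff_commute.mp h7 x hx).symm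

theorem kieler_normal (hX : CharP p X) (hT : SylIn p T X) (hNX : N ≤ X)
    (hn : X ≤ Subgroup.normalizer (N : Set G)) :
    N ⊓ Subgroup.centralizer (omegaOne p (T ⊓ Subgroup.centralizer (T : Set G)) : Set G) =
      N ⊓ Subgroup.centralizer (omegaOne p ((T ⊓ N) ⊓
        Subgroup.centralizer ((T ⊓ N : Subgroup G) : Set G)) : Set G) :=
  le_antisymm (le_inf inf_le_left (kieler_B hX hT hNX hn)) (le_inf inf_le_left (kieler_A hX hT hNX hn))

/-- **Kieler Lemma.** -/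
theorem kieler : ∀ {X T : Subgroup G}, CharP p X → SylIn p T X → SubnIn L X →
    L ⊓ Subgroup.centralizer (omegaOne p (T ⊓ Subgroup.centralizer (T : Set G)) : Set G) =
      L ⊓ Subgroup.centralizer (omegaOne p ((T ⊓ L) ⊓
        Subgroup.centralizer ((T ⊓ L : Subgroup G) : Set G)) : Set G) := by
  intro X
  induction X using (wellFounded_lt (α := Subgroup G)).induction with
  | _ X ih =>
    intro T hX hT hL
    by_cases hLX : L = X
    · rw [inf_eq_left.mpr (hLX ▸ hT.1 : T ≤ L)]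
    · obtain ⟨N, hLN, hNX, hXN, hs⟩ := hL.exists_normal hLX
      have h1 := ih N hNX (hX.of_normal hNX.le hXN) (hT.inf_normal hNX.le hXN) hs
      have h2 := kieler_normal hX hT hNX.le hXN
      have e : T ⊓ N ⊓ L = T ⊓ L := by rw [inf_assoc, inf_eq_right.mpr hLN]
      rw [e] at h1
      rw [← h1, ← inf_eq_left.mpr hLN, inf_assoc, inf_assoc, h2]

end

end Cfsg.Agent.Lib.Helper16
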