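import Cfsg.Agent.Lib.Helper16.PRed2
import Cfsg.Agent.Lib.Helper8.Coprime

/-! `p`-reduced normal subgroups and subnormal subgroups. -/

namespace Cfsg.Agent.Lib.Helper16

open Cfsg Cfsg.Agent.Lib.Helper8
open scoped commutatorElement

variable {G : Type*} [Group G]

section
variable [Finite G] {p : ℕ} [hp : Fact p.Prime]

/-- Thompson's `A × B` lemma, `a` and `B` commuting only modulo `C(P)`. -/
theorem thompson_AxB_mod {P B : Subgroup G} (hP : IsPGroup p P)
    (hB : IsPGroup p B) (hBn : B ≤ Subgroup.normalizer (P : Set G)) {a : G}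
    (han : a ∈ Subgroup.normalizer (P : Set G)) (hcop : (orderOf a).Coprime p)
    (haB : ∀ b ∈ B, a * b * a⁻¹ * b⁻¹ ∈ Subgroup.centralizer (P : Set G))
    (hC : ∀ x ∈ P, (∀ b ∈ B, x * b = b * x) → x * a = a * x) : ∀ x ∈ P, x * a = a * x := by
  induction hn : Nat.card P using Nat.strong_induction_on generalizing P with
  | _ n ih =>
    by_cases hbot : P = ⊥
    · intro x hx
      rw [hbot, Subgroup.mem_bot] at hx
      rw [hx]; simp
    have hlt := commutator_lt_of_isPGroup hP hB hBn hbot
    have hAnP : Subgroup.zpowers a ≤ Subgroup.normalizer (P : Set G) := by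
      rw [Subgroup.zpowers_le]; exact han
    have han' : a ∈ Subgroup.normalizer ((⁅P, B⁆ : Subgroup G) : Set G) := by
      apply mem_normalizer_of_conj_le
      rw [Subgroup.map_commutator, conj_eq_of_mem_normalizer han, Subgroup.commutator_le]
      rintro x hx _ ⟨b, hb, rfl⟩
      have hc := mem_centralizer_iff_commute.mp (haB b hb)
      have hxb : x * b * x⁻¹ * b⁻¹ ∈ P := by
        have := P.mul_mem hx (conj_mem_of_le_normalizer hBn hb (P.inv_mem hx))
        simpa [mul_assoc] using this
      have e : ⁅x, (MulAut.conj a).toMonoidHom b⁆ = ⁅x, b⁆ := by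
        have h1 : (MulAut.conj a).toMonoidHom b = (a * b * a⁻¹ * b⁻¹) * b := by simp [mul_assoc]
        rw [h1, commutatorElement_def, commutatorElement_def]
        set c := a * b * a⁻¹ * b⁻¹ with hcdef
        have c1 : x * c = c * x := (hc x hx).eq.symm
        have c2 : c * (x * b * x⁻¹ * b⁻¹) = (x * b * x⁻¹ * b⁻¹) * c := (hc _ hxb).eq
        calc x * (c * b) * x⁻¹ * (c * b)⁻¹ = (x * c) * b * x⁻¹ * b⁻¹ * c⁻¹ := by
              simp only [mul_inv_rev, mul_assoc]
          _ = c * (x * b * x⁻¹ * b⁻¹) * c⁻¹ := by rw [c1]; simp only [mul_assoc]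
          _ = x * b * x⁻¹ * b⁻¹ := by rw [c2]; simp only [mul_assoc, mul_inv_cancel, mul_one]
      rw [e]
      exact Subgroup.commutator_mem_commutator hx hb
    have h1 := ih _ (hn ▸ card_lt_of_lt hlt) (hP.to_le hlt.le)
      (Cfsg.Agent.Lib.Helper16.le_normalizer_commutator hBn Subgroup.le_normalizer) han'
      (fun b hb => Subgroup.centralizer_le (by exact_mod_cast hlt.le) (haB b hb))
      (fun x hx => hC x (hlt.le hx)) rfl
    have e1 : ⁅⁅P, B⁆, Subgroup.zpowers a⁆ = ⊥ := by
      rw [Subgroup.commutator_eq_bot_iff_le_centralizer]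
      intro x hx
      rw [Subgroup.mem_centralizer_iff]
      intro y hy
      obtain ⟨k, rfl⟩ := Subgroup.mem_zpowers_iff.mp hy
      have : Commute a x := (h1 x hx).symm
      exact (this.zpow_left k).eq
    have e2 : ⁅⁅B, Subgroup.zpowers a⁆, P⁆ = ⊥ := by
      rw [Subgroup.commutator_eq_bot_iff_le_centralizer]
      apply commutator_le_of_le_commStab'
      rw [Subgroup.zpowers_le]
      exact ⟨normalizer_le_normalizer_centralizer P han, haB⟩
    have e3 : ⁅⁅Subgroup.zpowers a, P⁆, B⁆ = ⊥ := Subgroup.commutator_commutator_eq_bot_of_rotate e1 e2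
    rw [Subgroup.commutator_eq_bot_iff_le_centralizer] at e3
    apply centralizes_of_stabilizes hP han hcop
    intro x hx
    have hmem : x * a * x⁻¹ * a⁻¹ ∈ ⁅Subgroup.zpowers a, P⁆ := by
      rw [Subgroup.commutator_comm]
      exact Subgroup.commutator_mem_commutator hx (Subgroup.mem_zpowers a)
    have hmemP : x * a * x⁻¹ * a⁻¹ ∈ P := commutator_le_right_of_le_normalizer hAnP hmem
    apply hC _ hmemP
    intro b hb
    exact (Subgroup.mem_centralizer_iff.mp (e3 hmem) b hb).symm

variable {V W L K D X : Subgroup G}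

theorem PRed.le_centralizer_of_subnIn (h : PRed p V K) (hD : SubnIn D K)
    (hc : ∀ x ∈ D, (orderOf x).Coprime p → x ∈ Subgroup.centralizer (V : Set G)) :
    D ≤ Subgroup.centralizer (V : Set G) := by
  have h1 : IsPReducedNormal p (V.subgroupOf K) := (isPReducedNormal_subgroupOf_iff h.1).mpr h
  have h2 := isPReducedNormal_le_centralizer_of_isSubnormal h1 hD.2 (by
    intro x hx hx'
    rw [← mem_centralizer_map_subtype_iff, Subgroup.map_subgroupOf_eq_of_le h.1]
    exact hc x hx (by rwa [Subgroup.orderOf_coe]))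
  intro d hd
  have h3 := h2 (show (⟨d, hD.1 hd⟩ : ↥K) ∈ D.subgroupOf K from hd)
  rw [← mem_centralizer_map_subtype_iff, Subgroup.map_subgroupOf_eq_of_le h.1] at h3
  exact h3

/-- the normal step -/
theorem PRed.inf_normal_aux (h : PRed p V K) (hLK : L ≤ K) (hn : K ≤ Subgroup.normalizer (L : Set G))
    (hXL : X ≤ L) (hX : SubnIn X K)
    (hc : ∀ x ∈ X, (orderOf x).Coprime p → x ∈ Subgroup.centralizer ((V ⊓ L : Subgroup G) : Set G)) :
    X ≤ Subgroup.centralizer (V : Set G) := by
  refine h.le_centralizer_of_subnIn hX (fun x hx hcop => ?_)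
  rw [mem_centralizer_iff_commute]
  intro v hv
  refine commute_of_chain hcop (h.isPGroup.to_le (inf_le_left : V ⊓ L ≤ V))
    (mem_centralizer_iff_commute.mp (hc x hx hcop)) ⟨?_, ?_⟩
  · have := V.mul_mem (conj_mem_of_le_normalizer h.le_normalizer (hLK (hXL hx)) hv) (V.inv_mem hv)
    exact this
  · have := L.mul_mem (hXL hx) (conj_mem_of_le_normalizer hn (h.le hv) (L.inv_mem (hXL hx)))
    simpa [mul_assoc] using this

theorem PRed.inf_normal (h : PRed p V K) (hLK : L ≤ K) (hn : K ≤ Subgroup.normalizer (L : Set G)) :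
    PRed p (V ⊓ L) L ∧
      L ⊓ Subgroup.centralizer ((V ⊓ L : Subgroup G) : Set G) ≤ Subgroup.centralizer (V : Set G) := by
  have hLn : L ≤ Subgroup.normalizer ((V ⊓ L : Subgroup G) : Set G) :=
    le_normalizer_inf (hLK.trans h.le_normalizer) Subgroup.le_normalizer
  have hLsub : SubnIn L K := SubnIn.of_normal hLK hn
  refine ⟨⟨inf_le_right, hLn, elemAb_mono inf_le_left h.elemAb, fun D hD hDn hc => ?_⟩, ?_⟩
  · exact (h.inf_normal_aux hLK hn hD ((SubnIn.of_normal hD hDn).trans hLsub) hc).trans
      (Subgroup.centralizer_le (by exact_mod_cast (inf_le_left : V ⊓ L ≤ V)))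
  · refine h.inf_normal_aux hLK hn inf_le_left ((SubnIn.of_normal inf_le_left ?_).trans hLsub)
      (fun x hx _ => hx.2)
    exact le_normalizer_inf Subgroup.le_normalizer (hLn.trans (normalizer_le_normalizer_centralizer _))

theorem PRed.inf_subnIn (h : PRed p V K) (hL : SubnIn L K) :
    PRed p (V ⊓ L) L ∧
      L ⊓ Subgroup.centralizer ((V ⊓ L : Subgroup G) : Set G) ≤ Subgroup.centralizer (V : Set G) := by
  induction hn : Nat.card K using Nat.strong_induction_on generalizing V K with
  | _ n ih =>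
    by_cases hne : L = K
    · subst hne
      rw [inf_eq_left.mpr h.le]
      exact ⟨h, inf_le_right⟩
    obtain ⟨N, hLN, hNK, hKN, hLsub⟩ := hL.exists_normal hne
    obtain ⟨h1, h2⟩ := h.inf_normal hNK.le hKN
    obtain ⟨h3, h4⟩ := ih _ (hn ▸ card_lt_of_lt hNK) h1 hLsub rfl
    have e : V ⊓ N ⊓ L = V ⊓ L := by rw [inf_assoc, inf_eq_right.mpr hLN]
    rw [e] at h3 h4
    exact ⟨h3, fun x hx => h2 ⟨hLN hx.1, h4 hx⟩⟩

/-- the other normal step -/
theorem PRed.exists_pRed_of_normal (hLK : L ≤ K) (hn : K ≤ Subgroup.normalizer (L : Set G))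
    (h : PRed p W L) (hKW : K ≤ Subgroup.normalizer (W : Set G)) :
    ∃ W' ≤ W, PRed p W' K ∧ L ⊓ Subgroup.centralizer (W' : Set G) ≤ Subgroup.centralizer (W : Set G) := by
  induction hcard : Nat.card W using Nat.strong_induction_on generalizing W with
  | _ n ih =>
    by_cases hW : PRed p W K
    · exact ⟨W, le_rfl, hW, inf_le_right⟩
    have hex : ∃ D : Subgroup G, D ≤ K ∧ K ≤ Subgroup.normalizer (D : Set G) ∧
        (∀ x ∈ D, (orderOf x).Coprime p → x ∈ Subgroup.centralizer (W : Set G)) ∧
        ¬ D ≤ Subgroup.centralizer (W : Set G) := by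
      by_contra hcon
      push Not at hcon
      exact hW ⟨h.le.trans hLK, hKW, h.elemAb, hcon⟩
    obtain ⟨D, hDK, hKD, hDc, hDW⟩ := hex
    obtain ⟨Q, hQ⟩ := exists_sylIn (p := p) D
    have hW0lt : W ⊓ Subgroup.centralizer (D : Set G) < W := by
      refine lt_of_le_of_ne inf_le_left (fun e => hDW ?_)
      rw [Subgroup.le_centralizer_iff]
      exact inf_eq_left.mp e
    have hKW0 : K ≤ Subgroup.normalizer ((W ⊓ Subgroup.centralizer (D : Set G) : Subgroup G) : Set G) :=
      le_normalizer_inf hKW (hKD.trans (normalizer_le_normalizer_centralizer D))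
    have hDL : D ⊓ L ≤ Subgroup.centralizer (W : Set G) :=
      h.2.2.2 (D ⊓ L) inf_le_right (le_normalizer_inf (hLK.trans hKD) Subgroup.le_normalizer)
        (fun x hx hc => hDc x hx.1 hc)
    have hres : pRes p D ≤ Subgroup.centralizer (W : Set G) := by
      rw [pRes_le_iff]
      exact hDc
    have key : ∀ a ∈ L, (orderOf a).Coprime p →
        a ∈ Subgroup.centralizer ((W ⊓ Subgroup.centralizer (D : Set G) : Subgroup G) : Set G) →
        a ∈ Subgroup.centralizer (W : Set G) := by
      intro a haL hcop hac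
      have hcomm := thompson_AxB_mod h.isPGroup hQ.isPGroup (hQ.le.trans (hDK.trans hKW))
        (h.le_normalizer haL) hcop (fun b hb => hDL ⟨?_, ?_⟩) (fun x hx hxb => ?_)
      · rw [mem_centralizer_iff_commute]
        intro x hx
        exact (hcomm x hx).symm
      · have := D.mul_mem (conj_mem_of_le_normalizer hKD (hLK haL) (hQ.le hb)) (D.inv_mem (hQ.le hb))
        exact this
      · have := L.mul_mem haL (conj_mem_of_le_normalizer hn (hDK (hQ.le hb)) (L.inv_mem haL))
        simpa [mul_assoc] using this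
      · have hxD : x ∈ Subgroup.centralizer (D : Set G) := by
          rw [← pRes_sup_sylIn hQ, centralizer_sup_eq]
          refine ⟨Subgroup.le_centralizer_iff.mp hres hx, ?_⟩
          show x ∈ Subgroup.centralizer (Q : Set G)
          rw [mem_centralizer_iff_commute]
          exact fun b hb => hxb b hb
        exact ((mem_centralizer_iff_commute.mp hac) x ⟨hx, hxD⟩).eq.symm
    have hLW0 : L ≤ Subgroup.normalizer ((W ⊓ Subgroup.centralizer (D : Set G) : Subgroup G) : Set G) :=
      hLK.trans hKW0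
    have hW0 : PRed p (W ⊓ Subgroup.centralizer (D : Set G)) L := by
      refine ⟨inf_le_left.trans h.le, hLW0, elemAb_mono inf_le_left h.elemAb, fun D' hD' hD'n hc => ?_⟩
      refine (h.2.2.2 D' hD' hD'n (fun x hx hcop => key x (hD' hx) hcop (hc x hx hcop))).trans ?_
      exact Subgroup.centralizer_le (by exact_mod_cast (inf_le_left : W ⊓ Subgroup.centralizer (D : Set G) ≤ W))
    have hcent : L ⊓ Subgroup.centralizer ((W ⊓ Subgroup.centralizer (D : Set G) : Subgroup G) : Set G) ≤
        Subgroup.centralizer (W : Set G) :=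
      h.2.2.2 _ inf_le_left
        (le_normalizer_inf Subgroup.le_normalizer (hLW0.trans (normalizer_le_normalizer_centralizer _)))
        (fun x hx hcop => key x hx.1 hcop hx.2)
    obtain ⟨W', hW'le, hW'K, hW'c⟩ := ih _ (hcard ▸ card_lt_of_lt hW0lt) hW0 hKW0 rfl
    exact ⟨W', hW'le.trans inf_le_left, hW'K, fun x hx => hcent ⟨hx.1, hW'c hx⟩⟩

theorem PRed.conj_of_mem_normalizer (h : PRed p V L) {g : G} (hg : g ∈ Subgroup.normalizer (L : Set G)) :
    PRed p (V.map (MulAut.conj g).toMonoidHom) L := by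
  have hLg : L.map (MulAut.conj g).toMonoidHom = L := conj_eq_of_mem_normalizer hg
  have hLg' : L.map (MulAut.conj g⁻¹).toMonoidHom = L :=
    conj_eq_of_mem_normalizer (Subgroup.inv_mem _ hg)
  refine ⟨?_, ?_, ?_, ?_⟩
  · rw [← hLg]; exact conj_mono h.le g
  · rw [normalizer_conj]
    calc L = L.map (MulAut.conj g).toMonoidHom := hLg.symm
      _ ≤ _ := conj_mono h.le_normalizer g
  · have := h.elemAb
    rw [elemAb_iff] at this ⊢
    refine ⟨?_, ?_⟩
    · rintro _ ⟨a, ha, rfl⟩ _ ⟨b, hb, rfl⟩
      exact (this.1 a ha b hb).map _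
    · rintro _ ⟨a, ha, rfl⟩
      rw [← map_pow, this.2 a ha, map_one]
  · intro D hD hDn hc
    have h1 := h.2.2.2 (D.map (MulAut.conj g⁻¹).toMonoidHom)
      (by rw [← hLg']; exact conj_mono hD _)
      (by
        rw [normalizer_conj]
        calc L = L.map (MulAut.conj g⁻¹).toMonoidHom := hLg'.symm
          _ ≤ _ := conj_mono hDn _)
      (by
        rintro _ ⟨x, hx, rfl⟩ hcop
        have h2 := hc x hx (by
          have e : orderOf ((MulAut.conj g⁻¹).toMonoidHom x) = orderOf x :=
            orderOf_injective _ (MulAut.conj g⁻¹).injective x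
          rwa [e] at hcop)
        rw [centralizer_conj, mem_conj] at h2
        simpa using h2)
    rw [centralizer_conj, ← inv_inv g, ← conj_le_iff]
    simpa using h1

theorem le_normalizer_largestPReducedOf (hn : K ≤ Subgroup.normalizer (L : Set G)) :
    K ≤ Subgroup.normalizer ((largestPReducedOf p L : Subgroup G) : Set G) := fun _ hk =>
  mem_normalizer_of_conj_le
    ((pRed_largestPReducedOf L).conj_of_mem_normalizer (hn hk)).le_largestPReducedOf

theorem inf_centralizer_largestPReducedOf_le (hL : SubnIn L K) :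
    L ⊓ Subgroup.centralizer ((largestPReducedOf p K : Subgroup G) : Set G) ≤
      Subgroup.centralizer ((largestPReducedOf p L : Subgroup G) : Set G) := by
  induction hn : Nat.card K using Nat.strong_induction_on generalizing K with
  | _ n ih =>
    by_cases hne : L = K
    · subst hne
      exact inf_le_right
    obtain ⟨N, hLN, hNK, hKN, hLsub⟩ := hL.exists_normal hne
    obtain ⟨W', -, hW'K, hW'c⟩ := PRed.exists_pRed_of_normal hNK.le hKN (pRed_largestPReducedOf (p := p) N)
      (le_normalizer_largestPReducedOf hKN)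
    have h1 := ih _ (hn ▸ card_lt_of_lt hNK) hLsub rfl
    intro x hx
    refine h1 ⟨hx.1, hW'c ⟨hLN hx.1, ?_⟩⟩
    exact Subgroup.centralizer_le (by exact_mod_cast hW'K.le_largestPReducedOf) hx.2

theorem largestPReducedOf_top : largestPReducedOf p (⊤ : Subgroup G) = largestPReduced p G :=
  le_antisymm (le_largestPReduced ((isPReducedNormal_iff_pRed_top _).mpr (pRed_largestPReducedOf ⊤)))
    ((isPReducedNormal_iff_pRed_top _).mp largestPReduced_isPReducedNormal).le_largestPReducedOf

theorem largestPReduced_subnormal (hL : L.IsSubnormal) :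
    largestPReduced p G ⊓ L = largestPReduced p G ⊓ largestPReducedOf p L ∧
    IsPReducedNormal p ((largestPReduced p G ⊓ L).subgroupOf L) ∧
    L ⊓ Subgroup.centralizer ((largestPReducedOf p L : Subgroup G) : Set G) =
      L ⊓ Subgroup.centralizer (largestPReduced p G : Set G) ∧
    L ⊓ Subgroup.centralizer (largestPReduced p G : Set G) =
      L ⊓ Subgroup.centralizer ((largestPReduced p G ⊓ L : Subgroup G) : Set G) ∧
    (pResidual p G ≤ L → (⁅largestPReducedOf p L, L⁆ = ⊥ ↔ ⁅largestPReduced p G, (⊤ : Subgroup G)⁆ = ⊥)) := by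
  have hY : PRed p (largestPReduced p G) ⊤ :=
    (isPReducedNormal_iff_pRed_top _).mp largestPReduced_isPReducedNormal
  have hLs : SubnIn L ⊤ := subnIn_top.mpr hL
  obtain ⟨h1, h2⟩ := hY.inf_subnIn hLs
  have h3 := inf_centralizer_largestPReducedOf_le (p := p) hLs
  rw [largestPReducedOf_top] at h3
  have hle : largestPReduced p G ⊓ L ≤ largestPReducedOf p L := h1.le_largestPReducedOf
  have e3 : L ⊓ Subgroup.centralizer ((largestPReducedOf p L : Subgroup G) : Set G) =
      L ⊓ Subgroup.centralizer (largestPReduced p G : Set G) := by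
    apply le_antisymm
    · exact fun x hx => ⟨hx.1, h2 ⟨hx.1, Subgroup.centralizer_le (by exact_mod_cast hle) hx.2⟩⟩
    · exact fun x hx => ⟨hx.1, h3 hx⟩
  refine ⟨?_, (isPReducedNormal_subgroupOf_iff inf_le_right).mpr h1, e3, ?_, ?_⟩
  · exact le_antisymm (le_inf inf_le_left hle)
      (inf_le_inf_left _ (pRed_largestPReducedOf (p := p) L).le)
  · apply le_antisymm
    · exact inf_le_inf_left _ (Subgroup.centralizer_le
        (by exact_mod_cast (inf_le_left : largestPReduced p G ⊓ L ≤ largestPReduced p G)))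
    · exact fun x hx => ⟨hx.1, h2 hx⟩
  · intro hres
    rw [Subgroup.commutator_eq_bot_iff_le_centralizer, Subgroup.commutator_eq_bot_iff_le_centralizer,
      Subgroup.le_centralizer_iff, Subgroup.le_centralizer_iff (K := ⊤)]
    constructor
    · intro hc
      have h4 : L ≤ Subgroup.centralizer (largestPReduced p G : Set G) := fun x hx =>
        ((e3 ▸ (⟨hx, hc hx⟩ : x ∈ L ⊓ Subgroup.centralizer ((largestPReducedOf p L : Subgroup G) : Set G))) :
          x ∈ L ⊓ Subgroup.centralizer (largestPReduced p G : Set G)).2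
      refine hY.2.2.2 ⊤ le_rfl (by rw [Subgroup.normalizer_eq_top]) (fun x _ hcop => h4 (hres ?_))
      rw [← pRes_top]
      exact mem_pRes (Subgroup.mem_top x) hcop
    · intro hc x hx
      exact ((e3.symm ▸ (⟨hx, hc (Subgroup.mem_top x)⟩ :
        x ∈ L ⊓ Subgroup.centralizer (largestPReduced p G : Set G))) :
          x ∈ L ⊓ Subgroup.centralizer ((largestPReducedOf p L : Subgroup G) : Set G)).2

end

end Cfsg.Agent.Lib.Helper16
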