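import Cfsg.Agent.Lib.Helper16.CharP
import Cfsg.Agent.Lib.Helper20.Subnormal
import Cfsg.Prelude.Def_HallClasses

set_option autoImplicit false
set_option linter.unusedSectionVars false
open Cfsg

namespace Cfsg.Agent.Lib.Helper16

open Cfsg.Agent.Lib.Helper20 (cj mem_cj cj_cj cj_one cj_inv_cj cj_cj_inv cj_mono
  cj_eq_of_mem_normalizer mem_normalizer_of_cj_eq)

variable {G : Type*} [Group G]

/-- `H` and `H^g` are conjugate in their join. -/
def PGood (H : Subgroup G) (g : G) : Prop := ∃ x ∈ H ⊔ cj g H, cj g H = cj x H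

theorem isPronormal_iff_pGood {H : Subgroup G} : IsPronormal H ↔ ∀ g, PGood H g := Iff.rfl

theorem cj_le_of_mem {J L : Subgroup G} {y : G} (hy : y ∈ J) (hL : L ≤ J) : cj y L ≤ J := by
  intro x hx
  rw [mem_cj] at hx
  have := J.mul_mem (J.mul_mem hy (hL hx)) (J.inv_mem hy)
  simpa [mul_assoc] using this

theorem PGood.of_left {H : Subgroup G} {g y : G} (hy : y ∈ H ⊔ cj g H) (h : PGood H (y⁻¹ * g)) :
    PGood H g := by
  obtain ⟨x, hx, hxe⟩ := h
  have h1 : H ⊔ cj (y⁻¹ * g) H ≤ H ⊔ cj g H := by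
    refine sup_le le_sup_left ?_
    rw [← cj_cj]
    exact cj_le_of_mem (inv_mem hy) le_sup_right
  refine ⟨y * x, mul_mem hy (h1 hx), ?_⟩
  rw [← cj_cj, ← hxe, cj_cj, mul_inv_cancel_left]

theorem PGood.of_right {H : Subgroup G} {g n : G} (hn : n ∈ Subgroup.normalizer (H : Set G))
    (h : PGood H g) : PGood H (g * n) := by
  have : cj (g * n) H = cj g H := by rw [← cj_cj, cj_eq_of_mem_normalizer hn]
  unfold PGood
  rw [this]
  exact h

theorem subgroupOf_cj' (M H : Subgroup G) (a : M) :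
    cj a (H.subgroupOf M) = (cj (a : G) H).subgroupOf M := by
  ext y
  rw [mem_cj, Subgroup.mem_subgroupOf, Subgroup.mem_subgroupOf, mem_cj]
  simp

theorem pGood_subgroupOf {M H : Subgroup G} (hHM : H ≤ M) (a : M) :
    PGood (H.subgroupOf M) a ↔ PGood H (a : G) := by
  have hcj : ∀ b : M, cj (b : G) H ≤ M := fun b => cj_le_of_mem b.2 hHM
  constructor
  · rintro ⟨x, hx, hxe⟩
    rw [subgroupOf_cj', ← Subgroup.subgroupOf_sup hHM (hcj a), Subgroup.mem_subgroupOf] at hx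
    rw [subgroupOf_cj', subgroupOf_cj', Subgroup.subgroupOf_inj, inf_eq_left.2 (hcj _),
      inf_eq_left.2 (hcj _)] at hxe
    exact ⟨x, hx, hxe⟩
  · rintro ⟨x, hx, hxe⟩
    have hxM : x ∈ M := (sup_le hHM (hcj a)) hx
    refine ⟨⟨x, hxM⟩, ?_, ?_⟩
    · rw [subgroupOf_cj', ← Subgroup.subgroupOf_sup hHM (hcj a), Subgroup.mem_subgroupOf]
      exact hx
    · rw [subgroupOf_cj', subgroupOf_cj', hxe]

theorem map_cj {G' : Type*} [Group G'] (f : G →* G') (g : G) (H : Subgroup G) :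
    (cj g H).map f = cj (f g) (H.map f) := by
  unfold cj
  rw [Subgroup.map_map, Subgroup.map_map]
  congr 1
  ext x
  simp

theorem pGood_map {G' : Type*} [Group G'] (f : G →* G') {H : Subgroup G} {g : G} (h : PGood H g) :
    PGood (H.map f) (f g) := by
  obtain ⟨x, hx, hxe⟩ := h
  refine ⟨f x, ?_, ?_⟩
  · rw [← map_cj, ← Subgroup.map_sup]
    exact Subgroup.mem_map_of_mem f hx
  · rw [← map_cj, ← map_cj, hxe]

theorem exists_of_pGood_map {G' : Type*} [Group G'] (f : G →* G') {H : Subgroup G} {g : G}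
    (h : PGood (H.map f) (f g)) : ∃ y ∈ H ⊔ cj g H, (cj g H).map f = (cj y H).map f := by
  obtain ⟨x, hx, hxe⟩ := h
  rw [← map_cj, ← Subgroup.map_sup] at hx
  obtain ⟨y, hy, rfl⟩ := hx
  exact ⟨y, hy, by rw [map_cj, map_cj, hxe]⟩

theorem pGood_of_map {G' : Type*} [Group G'] (f : G →* G') {H : Subgroup G} {g : G}
    (hker : f.ker ≤ H) (h : PGood (H.map f) (f g)) : PGood H g := by
  obtain ⟨y, hy, hye⟩ := exists_of_pGood_map f h
  refine ⟨y, hy, ?_⟩
  have hk : ∀ z, f.ker ≤ cj z H := fun z k hk => by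
    rw [mem_cj]
    apply hker
    rw [MonoidHom.mem_ker] at hk ⊢
    simp [hk]
  have := congrArg (Subgroup.comap f) hye
  rwa [Subgroup.comap_map_eq_self (hk g), Subgroup.comap_map_eq_self (hk y)] at this

theorem isPronormal_of_cj {H : Subgroup G} (g : G) (h : IsPronormal (cj g H)) : IsPronormal H := by
  intro k
  have h1 := pGood_map (MulAut.conj g⁻¹).toMonoidHom (h (g * k * g⁻¹))
  have h2 : (cj g H).map (MulAut.conj g⁻¹).toMonoidHom = H := cj_inv_cj g H
  have h3 : (MulAut.conj g⁻¹).toMonoidHom (g * k * g⁻¹) = k := by simp [mul_assoc]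
  rw [h2, h3] at h1
  exact h1

section
variable [Finite G] {p : ℕ} [hp : Fact p.Prime]

theorem exists_sylIn_top_le {K : Subgroup G} (h : ¬ p ∣ K.index) : ∃ S, SylIn p S ⊤ ∧ S ≤ K := by
  obtain ⟨T, hT⟩ := exists_sylIn (p := p) K
  refine ⟨T, ⟨le_top, hT.2.1, ?_⟩, hT.1⟩
  rw [← Subgroup.relIndex_mul_relIndex T K ⊤ hT.1 le_top, Subgroup.relIndex_top_right]
  intro hd
  rcases (Nat.Prime.dvd_mul hp.out).mp hd with h1 | h1
  · exact hT.2.2 h1
  · exact h h1

theorem SylIn.not_dvd_index_of_le {S K : Subgroup G} (hS : SylIn p S ⊤) (hSK : S ≤ K) :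
    ¬ p ∣ K.index := by
  intro hd
  apply hS.2.2
  rw [Subgroup.relIndex_top_right]
  exact hd.trans (Subgroup.index_dvd_of_le hSK)

theorem exists_sylow_le_iff {K : Subgroup G} :
    (∃ P : Sylow p G, (P : Subgroup G) ≤ K) ↔ ¬ p ∣ K.index := by
  constructor
  · rintro ⟨P, hP⟩
    exact (sylIn_top P).not_dvd_index_of_le hP
  · intro h
    obtain ⟨S, hS, hSK⟩ := exists_sylIn_top_le h
    obtain ⟨P, hP⟩ := hS.toSylow_top
    exact ⟨P, hP ▸ hSK⟩

/-- forward direction, part (ii). -/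
theorem pron_normalizer_map (A : Subgroup G) [A.Normal] {K : Subgroup G} (hK : IsPronormal K) :
    (Subgroup.normalizer (K : Set G)).map (QuotientGroup.mk' A) =
      Subgroup.normalizer ((K.map (QuotientGroup.mk' A) : Subgroup (G ⧸ A)) : Set (G ⧸ A)) := by
  apply le_antisymm (Subgroup.le_normalizer_map _)
  intro q hq
  obtain ⟨g, rfl⟩ := QuotientGroup.mk'_surjective A q
  have h1 : (cj g K).map (QuotientGroup.mk' A) = K.map (QuotientGroup.mk' A) := by
    rw [map_cj]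
    exact cj_eq_of_mem_normalizer hq
  have h2 : cj g K ≤ A ⊔ K := by
    have := Subgroup.map_le_map_iff.mp h1.le
    rwa [QuotientGroup.ker_mk', sup_comm] at this
  obtain ⟨x, hx, hxe⟩ := hK g
  have hx' : x ∈ A ⊔ K := (sup_le le_sup_right h2) hx
  rw [← SetLike.mem_coe, Subgroup.normal_mul] at hx'
  obtain ⟨a, ha, k, hk, rfl⟩ := Set.mem_mul.1 hx'
  have h3 : cj g K = cj a K := by
    have : cj g K = cj (a * k) K := hxe
    rw [this, ← cj_cj, cj_eq_of_mem_normalizer (Subgroup.le_normalizer hk)]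
  refine ⟨a⁻¹ * g, ?_, ?_⟩
  · apply mem_normalizer_of_cj_eq
    rw [← cj_cj, h3, cj_inv_cj]
  · rw [map_mul, map_inv]
    have : QuotientGroup.mk' A a = 1 := (QuotientGroup.eq_one_iff a).mpr ha
    rw [this]
    simp

theorem SylIn.data_of_normal {A T S : Subgroup G} [A.Normal] (hT : SylIn p T A) (hS : SylIn p S ⊤)
    (hTS : T ≤ S) : S ≤ Subgroup.normalizer (T : Set G) := by
  have h1 : T = S ⊓ A := hT.eq_of_le (hS.2.1.to_le inf_le_left) inf_le_right (le_inf hTS hT.1)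
  rw [h1]
  exact le_normalizer_inf Subgroup.le_normalizer (by rw [Subgroup.normalizer_eq_top]; exact le_top)

theorem SylIn.not_dvd_index_normalizer {A T : Subgroup G} [A.Normal] (hT : SylIn p T A) :
    ¬ p ∣ (Subgroup.normalizer (T : Set G)).index := by
  obtain ⟨S, hS, hTS⟩ := exists_sylIn_ge hT.2.1 (le_top : T ≤ ⊤)
  exact hS.not_dvd_index_of_le (hT.data_of_normal hS hTS)

/-- forward direction, part (i), ambient form. -/
theorem pron_forward_i {A T : Subgroup G} [A.Normal] (hT : SylIn p T A)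
    (hW : ∀ K : Subgroup G, ¬ p ∣ K.index → IsPronormal K) (M : Subgroup G)
    (hM : M ≤ Subgroup.normalizer (T : Set G))
    (hMi : ¬ p ∣ M.relIndex (Subgroup.normalizer (T : Set G))) : IsPronormal M := by
  apply hW
  rw [← Subgroup.relIndex_mul_index hM]
  intro hd
  rcases (Nat.Prime.dvd_mul hp.out).mp hd with h1 | h1
  · exact hMi h1
  · exact hT.not_dvd_index_normalizer h1

/-- transfer of condition (i). -/
theorem pron_transfer_i (T : Subgroup G) [(T.subgroupOf (Subgroup.normalizer (T : Set G))).Normal] :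
    (∀ K : Subgroup (↥(Subgroup.normalizer (T : Set G)) ⧸ T.subgroupOf (Subgroup.normalizer (T : Set G))),
      (∃ P : Sylow p (↥(Subgroup.normalizer (T : Set G)) ⧸ T.subgroupOf (Subgroup.normalizer (T : Set G))),
        (P : Subgroup (↥(Subgroup.normalizer (T : Set G)) ⧸ T.subgroupOf (Subgroup.normalizer (T : Set G)))) ≤ K) →
      IsPronormal K) ↔
    (∀ M : Subgroup G, T ≤ M → M ≤ Subgroup.normalizer (T : Set G) →
      ¬ p ∣ M.relIndex (Subgroup.normalizer (T : Set G)) →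
      ∀ g ∈ Subgroup.normalizer (T : Set G), PGood M g) := by
  constructor
  · intro h M hTM hMN hMi g hg
    have hker : (QuotientGroup.mk' (T.subgroupOf (Subgroup.normalizer (T : Set G)))).ker ≤
        M.subgroupOf (Subgroup.normalizer (T : Set G)) := by
      rw [QuotientGroup.ker_mk']
      exact Subgroup.comap_mono hTM
    have h1 := h ((M.subgroupOf (Subgroup.normalizer (T : Set G))).map (QuotientGroup.mk' _))
      (exists_sylow_le_iff.mpr (by
        rw [Subgroup.index_map_eq _ (QuotientGroup.mk'_surjective _) hker]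
        exact hMi))
    have h2 := pGood_of_map _ hker (h1 (QuotientGroup.mk' _ ⟨g, hg⟩))
    exact (pGood_subgroupOf hMN ⟨g, hg⟩).mp h2
  · intro h K hK q
    rw [exists_sylow_le_iff] at hK
    obtain ⟨n, rfl⟩ := QuotientGroup.mk'_surjective _ q
    have hsub : ((K.comap (QuotientGroup.mk' (T.subgroupOf (Subgroup.normalizer (T : Set G))))).map
        (Subgroup.normalizer (T : Set G)).subtype).subgroupOf (Subgroup.normalizer (T : Set G)) =
        K.comap (QuotientGroup.mk' (T.subgroupOf (Subgroup.normalizer (T : Set G)))) :=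
      Subgroup.comap_map_eq_self_of_injective (Subgroup.subtype_injective _) _
    have h1 := h ((K.comap (QuotientGroup.mk' (T.subgroupOf (Subgroup.normalizer (T : Set G))))).map
        (Subgroup.normalizer (T : Set G)).subtype) ?_ (Subgroup.map_subtype_le _) ?_ n n.2
    · rw [← pGood_subgroupOf (Subgroup.map_subtype_le _), hsub] at h1
      have h2 := pGood_map (QuotientGroup.mk' (T.subgroupOf (Subgroup.normalizer (T : Set G)))) h1
      rwa [Subgroup.map_comap_eq_self_of_surjective (QuotientGroup.mk'_surjective _)] at h2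
    · refine (Subgroup.map_subgroupOf_eq_of_le
        (Subgroup.le_normalizer : T ≤ Subgroup.normalizer (T : Set G))).symm.le.trans ?_
      apply Subgroup.map_mono
      intro x hx
      rw [Subgroup.mem_comap]
      have : QuotientGroup.mk' (T.subgroupOf (Subgroup.normalizer (T : Set G))) x = 1 :=
        (QuotientGroup.eq_one_iff x).mpr hx
      rw [this]
      exact K.one_mem
    · unfold Subgroup.relIndex
      rw [hsub, Subgroup.index_comap_of_surjective _ (QuotientGroup.mk'_surjective _)]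
      exact hK

theorem pron_transfer_A (A : Subgroup G)
    (hA : ∀ K : Subgroup ↥A, (∃ P : Sylow p ↥A, (P : Subgroup ↥A) ≤ K) → IsPronormal K) :
    ∀ B : Subgroup G, B ≤ A → ¬ p ∣ B.relIndex A → ∀ a ∈ A, PGood B a := by
  intro B hBA hBi a ha
  have h1 := hA (B.subgroupOf A) (exists_sylow_le_iff.mpr hBi) ⟨a, ha⟩
  exact (pGood_subgroupOf hBA ⟨a, ha⟩).mp h1

theorem pron_transfer_Q (A : Subgroup G) [A.Normal]
    (hQ : ∀ K : Subgroup (G ⧸ A), (∃ P : Sylow p (G ⧸ A), (P : Subgroup (G ⧸ A)) ≤ K) → IsPronormal K)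
    (hii : ∀ K : Subgroup G, ¬ p ∣ K.index →
      (Subgroup.normalizer (K : Set G)).map (QuotientGroup.mk' A) =
        Subgroup.normalizer ((K.map (QuotientGroup.mk' A) : Subgroup (G ⧸ A)) : Set (G ⧸ A))) :
    ∀ H : Subgroup G, ¬ p ∣ H.index → ∀ g, ∃ y ∈ H ⊔ cj g H, ∃ a ∈ A,
      ∃ n ∈ Subgroup.normalizer (H : Set G), g = y * a * n := by
  intro H hH g
  have h1 := hQ (H.map (QuotientGroup.mk' A)) (exists_sylow_le_iff.mpr (fun hd =>
    hH (hd.trans (Subgroup.index_map_dvd _ (QuotientGroup.mk'_surjective A))))) (QuotientGroup.mk' A g)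
  obtain ⟨y, hy, hye⟩ := exists_of_pGood_map _ h1
  have h2 : QuotientGroup.mk' A (y⁻¹ * g) ∈
      Subgroup.normalizer ((H.map (QuotientGroup.mk' A) : Subgroup (G ⧸ A)) : Set (G ⧸ A)) := by
    apply mem_normalizer_of_cj_eq
    rw [← map_cj, ← cj_cj, map_cj, hye, ← map_cj, cj_inv_cj]
  rw [← hii H hH] at h2
  obtain ⟨n, hn, hne⟩ := h2
  refine ⟨y, hy, y⁻¹ * g * n⁻¹, ?_, n, hn, by group⟩
  rw [← QuotientGroup.eq_one_iff]
  have : QuotientGroup.mk' A (y⁻¹ * g * n⁻¹) = 1 := by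
    rw [map_mul, ← hne, map_inv, mul_inv_cancel]
  exact this

theorem pron_transfer_Q' (A : Subgroup G) [A.Normal]
    (hQ : ∀ P : Sylow p (G ⧸ A), Subgroup.normalizer ((P : Subgroup (G ⧸ A)) : Set (G ⧸ A)) = P) :
    ∀ H : Subgroup G, ¬ p ∣ H.index → ∀ g, ∃ y ∈ H ⊔ cj g H, ∃ a ∈ A,
      ∃ n ∈ Subgroup.normalizer (H : Set G), g = y * a * n := by
  intro H hH g
  obtain ⟨S, hS, hSH⟩ := exists_sylIn_top_le hH
  have hS1 : SylIn p S (H ⊔ cj g H) := hS.mono (hSH.trans le_sup_left) le_top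
  have hS2 : SylIn p (cj g S) (H ⊔ cj g H) :=
    (hS.conj_of_mem (g := g) (by rw [Subgroup.normalizer_eq_top]; trivial)).mono
      ((cj_mono hSH).trans le_sup_right) le_top
  obtain ⟨y, hy, hye⟩ := hS1.exists_conj hS2
  have hye' : cj g S = cj y S := hye
  have h1 : y⁻¹ * g ∈ Subgroup.normalizer (S : Set G) := by
    apply mem_normalizer_of_cj_eq
    rw [← cj_cj, hye', cj_inv_cj]
  have hSi : ¬ p ∣ (S.map (QuotientGroup.mk' A)).index := fun hd =>
    (hS.not_dvd_index_of_le le_rfl) (hd.trans (Subgroup.index_map_dvd _ (QuotientGroup.mk'_surjective A)))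
  have h2 := hQ (IsPGroup.toSylow (hS.2.1.map (QuotientGroup.mk' A)) hSi)
  have h3 : QuotientGroup.mk' A (y⁻¹ * g) ∈ S.map (QuotientGroup.mk' A) := by
    have h4 := Subgroup.le_normalizer_map (QuotientGroup.mk' A) (Subgroup.mem_map_of_mem _ h1)
    have h5 : Subgroup.normalizer ((S.map (QuotientGroup.mk' A) : Subgroup (G ⧸ A)) : Set (G ⧸ A)) =
      S.map (QuotientGroup.mk' A) := h2
    rwa [h5] at h4
  obtain ⟨n, hn, hne⟩ := h3
  refine ⟨y, hy, y⁻¹ * g * n⁻¹, ?_, n, Subgroup.le_normalizer (hSH hn), by group⟩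
  rw [← QuotientGroup.eq_one_iff]
  have : QuotientGroup.mk' A (y⁻¹ * g * n⁻¹) = 1 := by
    rw [map_mul, ← hne, map_inv, mul_inv_cancel]
  exact this

/-- the core of the backward direction. -/
theorem pron_core {A T S H : Subgroup G} [A.Normal] (hT : SylIn p T A)
    (hA' : ∀ B : Subgroup G, B ≤ A → ¬ p ∣ B.relIndex A → ∀ a ∈ A, PGood B a)
    (hQ' : ∀ H : Subgroup G, ¬ p ∣ H.index → ∀ g, ∃ y ∈ H ⊔ cj g H, ∃ a ∈ A,
      ∃ n ∈ Subgroup.normalizer (H : Set G), g = y * a * n)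
    (hi : ∀ M : Subgroup G, T ≤ M → M ≤ Subgroup.normalizer (T : Set G) →
      ¬ p ∣ M.relIndex (Subgroup.normalizer (T : Set G)) →
      ∀ g ∈ Subgroup.normalizer (T : Set G), PGood M g)
    (hS : SylIn p S ⊤) (hTS : T ≤ S) (hSH : S ≤ H) : IsPronormal H := by
  have hHi : ¬ p ∣ H.index := hS.not_dvd_index_of_le hSH
  have hSN : S ≤ Subgroup.normalizer (T : Set G) := hT.data_of_normal hS hTS
  have hTB : SylIn p T (H ⊓ A) := hT.mono (le_inf (hTS.trans hSH) hT.1) inf_le_right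
  have hBi : ¬ p ∣ (H ⊓ A).relIndex A := by
    intro hd
    apply hT.2.2
    rw [← Subgroup.relIndex_mul_relIndex T (H ⊓ A) A hTB.1 inf_le_right]
    exact Dvd.dvd.mul_left hd _
  have hHB : H ≤ Subgroup.normalizer ((H ⊓ A : Subgroup G) : Set G) :=
    le_normalizer_inf Subgroup.le_normalizer (by rw [Subgroup.normalizer_eq_top]; exact le_top)
  intro g
  change PGood H g
  obtain ⟨y, hy, a, ha, n, hn, rfl⟩ := hQ' H hHi g
  apply PGood.of_left hy
  have e1 : y⁻¹ * (y * a * n) = a * n := by group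
  rw [e1]
  apply PGood.of_right hn
  -- step 2
  obtain ⟨z, hz, hze⟩ := hA' (H ⊓ A) inf_le_right hBi a ha
  have hzA : z ∈ A := (sup_le inf_le_right (cj_le_of_mem ha inf_le_right)) hz
  apply PGood.of_left ((sup_le_sup inf_le_left (cj_mono inf_le_left)) hz)
  have hbA : z⁻¹ * a ∈ A := A.mul_mem (A.inv_mem hzA) ha
  have hbN : z⁻¹ * a ∈ Subgroup.normalizer ((H ⊓ A : Subgroup G) : Set G) := by
    apply mem_normalizer_of_cj_eq
    rw [← cj_cj, hze, cj_inv_cj]
  obtain ⟨b, hb⟩ : ∃ b, b = z⁻¹ * a := ⟨_, rfl⟩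
  rw [← hb] at hbA hbN ⊢
  -- step 3
  obtain ⟨u, hu, hue⟩ := hTB.exists_conj (hTB.conj_of_mem hbN)
  have hue' : cj b T = cj u T := hue
  apply PGood.of_left ((le_sup_left : H ≤ H ⊔ cj b H) hu.1)
  have hcT : u⁻¹ * b ∈ Subgroup.normalizer (T : Set G) := by
    apply mem_normalizer_of_cj_eq
    rw [← cj_cj, hue', cj_inv_cj]
  have hcB : u⁻¹ * b ∈ Subgroup.normalizer ((H ⊓ A : Subgroup G) : Set G) :=
    Subgroup.mul_mem _ (Subgroup.inv_mem _ (Subgroup.le_normalizer hu)) hbN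
  obtain ⟨c, hc⟩ : ∃ c, c = u⁻¹ * b := ⟨_, rfl⟩
  rw [← hc] at hcT hcB ⊢
  -- step 4
  have hMi : ¬ p ∣ (H ⊓ Subgroup.normalizer (T : Set G)).relIndex (Subgroup.normalizer (T : Set G)) := by
    intro hd
    apply (hS.mono hSN le_top).2.2
    rw [← Subgroup.relIndex_mul_relIndex S (H ⊓ Subgroup.normalizer (T : Set G)) _ (le_inf hSH hSN)
      inf_le_right]
    exact Dvd.dvd.mul_left hd _
  obtain ⟨w, hw, hwe⟩ := hi (H ⊓ Subgroup.normalizer (T : Set G))
    (le_inf (hTS.trans hSH) Subgroup.le_normalizer) inf_le_right hMi c hcT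
  refine ⟨w, (sup_le_sup inf_le_left (cj_mono inf_le_left)) hw, ?_⟩
  have hH : H = (H ⊓ A) ⊔ (H ⊓ Subgroup.normalizer (T : Set G)) := by
    apply le_antisymm _ (sup_le inf_le_left inf_le_left)
    intro h hh
    obtain ⟨n, hn, m, hm, rfl⟩ := hTB.frattini' inf_le_left hHB hh
    exact Subgroup.mul_mem _ (Subgroup.mem_sup_left hn) (Subgroup.mem_sup_right hm)
  have hwB : w ∈ Subgroup.normalizer ((H ⊓ A : Subgroup G) : Set G) :=
    (sup_le (inf_le_left.trans hHB) (cj_le_of_mem hcB (inf_le_left.trans hHB))) hw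
  have e2 : ∀ t, cj t H = cj t (H ⊓ A) ⊔ cj t (H ⊓ Subgroup.normalizer (T : Set G)) := by
    intro t
    conv_lhs => rw [hH]
    exact Subgroup.map_sup _ _ _
  rw [e2 c, e2 w, cj_eq_of_mem_normalizer hcB, cj_eq_of_mem_normalizer hwB, hwe]

theorem pron_backward {A T : Subgroup G} [A.Normal] (hT : SylIn p T A)
    (hA' : ∀ B : Subgroup G, B ≤ A → ¬ p ∣ B.relIndex A → ∀ a ∈ A, PGood B a)
    (hQ' : ∀ H : Subgroup G, ¬ p ∣ H.index → ∀ g, ∃ y ∈ H ⊔ cj g H, ∃ a ∈ A,
      ∃ n ∈ Subgroup.normalizer (H : Set G), g = y * a * n)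
    (hi : ∀ M : Subgroup G, T ≤ M → M ≤ Subgroup.normalizer (T : Set G) →
      ¬ p ∣ M.relIndex (Subgroup.normalizer (T : Set G)) →
      ∀ g ∈ Subgroup.normalizer (T : Set G), PGood M g)
    (H : Subgroup G) (hH : ¬ p ∣ H.index) : IsPronormal H := by
  obtain ⟨S0, hS0, hS0H⟩ := exists_sylIn_top_le hH
  obtain ⟨S, hS, hTS⟩ := exists_sylIn_ge hT.2.1 (le_top : T ≤ ⊤)
  obtain ⟨g, -, hg⟩ := hS0.exists_conj hS
  apply isPronormal_of_cj g
  refine pron_core hT hA' hQ' hi hS hTS ?_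
  rw [hg]
  exact cj_mono hS0H

end

end Cfsg.Agent.Lib.Helper16
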