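import Cfsg.Agent.Lib.Helper16.FS2
import Cfsg.Agent.Lib.Helper16.Subn
import Cfsg.Agent.Lib.Helper16.Pron
import Cfsg.Agent.Lib.Helper4.Subnormal

set_option autoImplicit false
set_option linter.unusedSectionVars false
open Cfsg
open scoped commutatorElement

namespace Cfsg.Agent.Lib.Helper16

open Cfsg.Agent.Lib.Helper20 (cj mem_cj cj_cj cj_one cj_inv_cj cj_cj_inv cj_mono
  cj_eq_of_mem_normalizer mem_normalizer_of_cj_eq card_cj)
open Cfsg.Agent.Lib.Helper8 (SubnIn subnIn_top)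

universe u

theorem nat_aux_subSyl {a b u c x m u' c' : ℕ} (h1 : (a * x) * (b * m) = (u * u') * (c * c'))
    (h2 : a * b = u * c) (hpos : 0 < u * c) : u' * c' = x * m := by
  apply Nat.eq_of_mul_eq_mul_left hpos
  calc (u * c) * (u' * c') = (u * u') * (c * c') := by ring
    _ = (a * x) * (b * m) := h1.symm
    _ = (a * b) * (x * m) := by ring
    _ = (u * c) * (x * m) := by rw [h2]

/-- the statement: Sylow subgroups of joins of subnormal subgroups. -/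
def JoinSyl (p : ℕ) (G : Type u) [Group G] : Prop :=
  ∀ S A₁ A₂ : Subgroup G, SylIn p S ⊤ → A₁.IsSubnormal → A₂.IsSubnormal →
    (A₁ ⊔ A₂) ⊓ S ≤ (A₁ ⊓ S) ⊔ (A₂ ⊓ S)

section
variable {G : Type u} [Group G] [Finite G] {p : ℕ} [hp : Fact p.Prime]

theorem sup_inf_le_of_sylIn {X M S : Subgroup G} (hS : IsPGroup p S) (hX : SylIn p (X ⊓ S) X)
    (hM : SylIn p (M ⊓ S) M) (hn : X ≤ Subgroup.normalizer (M : Set G)) :
    (X ⊔ M) ⊓ S ≤ (X ⊓ S) ⊔ (M ⊓ S) := by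
  have hn2 : X ⊓ S ≤ Subgroup.normalizer ((M ⊓ S : Subgroup G) : Set G) :=
    le_normalizer_inf (inf_le_left.trans hn) (inf_le_right.trans Subgroup.le_normalizer)
  have e1 := Cfsg.Agent.Lib.Helper4.card_mul_card_eq_of_le_normalizer X M hn
  have e2 := Cfsg.Agent.Lib.Helper4.card_mul_card_eq_of_le_normalizer (X ⊓ S) (M ⊓ S) hn2
  have hUle : (X ⊓ S) ⊔ (M ⊓ S) ≤ X ⊔ M := sup_le_sup inf_le_left inf_le_left
  have hUS : (X ⊓ S) ⊔ (M ⊓ S) ≤ S := sup_le inf_le_right inf_le_right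
  have c1 := Cfsg.Agent.Lib.Helper4.card_eq_mul_relIndex hUle
  have c2 := Cfsg.Agent.Lib.Helper4.card_eq_mul_relIndex (inf_le_left : X ⊓ S ≤ X)
  have c3 := Cfsg.Agent.Lib.Helper4.card_eq_mul_relIndex (inf_le_left : M ⊓ S ≤ M)
  have hcle : (X ⊓ S) ⊓ (M ⊓ S) ≤ X ⊓ M := inf_le_inf inf_le_left inf_le_left
  have c4 := Cfsg.Agent.Lib.Helper4.card_eq_mul_relIndex hcle
  have hU : SylIn p ((X ⊓ S) ⊔ (M ⊓ S)) (X ⊔ M) := by
    refine ⟨hUle, hS.to_le hUS, ?_⟩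
    intro hd
    have key := nat_aux_subSyl (by rw [← c1, ← c2, ← c3, ← c4]; exact e1) e2
      (Nat.mul_pos Nat.card_pos Nat.card_pos)
    have h3 : p ∣ (X ⊓ S).relIndex X * (M ⊓ S).relIndex M := key ▸ Dvd.dvd.mul_right hd _
    rcases (Nat.Prime.dvd_mul hp.out).mp h3 with h | h
    · exact hX.2.2 h
    · exact hM.2.2 h
  exact (hU.eq_of_le (hS.to_le inf_le_right) inf_le_left (le_inf hUle hUS)).ge

theorem SubnIn.sup' {A B C : Subgroup G} (hA : SubnIn A C) (hB : SubnIn B C) : SubnIn (A ⊔ B) C :=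
  ⟨sup_le hA.1 hB.1, by
    rw [Subgroup.subgroupOf_sup hA.1 hB.1]
    exact Cfsg.Agent.Lib.Helper4.isSubnormal_sup hA.2 hB.2⟩

theorem JoinSyl.rel {X : Subgroup G} (h : JoinSyl p ↥X) {S A₁ A₂ : Subgroup G} (hS : SylIn p S X)
    (h₁ : SubnIn A₁ X) (h₂ : SubnIn A₂ X) : (A₁ ⊔ A₂) ⊓ S ≤ (A₁ ⊓ S) ⊔ (A₂ ⊓ S) := by
  have hS' : SylIn p (S.subgroupOf X) ⊤ :=
    ⟨le_top, hS.2.1.comap_subtype, by rw [Subgroup.relIndex_top_right]; exact hS.2.2⟩
  have key := h (S.subgroupOf X) (A₁.subgroupOf X) (A₂.subgroupOf X) hS' h₁.2 h₂.2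
  intro x hx
  have hxX : x ∈ X := hS.1 hx.2
  have h1 : (⟨x, hxX⟩ : ↥X) ∈ (A₁.subgroupOf X ⊔ A₂.subgroupOf X) ⊓ S.subgroupOf X := by
    refine ⟨?_, hx.2⟩
    rw [← Subgroup.subgroupOf_sup h₁.1 h₂.1]
    exact hx.1
  have h2 := key h1
  have e : ∀ A : Subgroup G, A.subgroupOf X ⊓ S.subgroupOf X = (A ⊓ S).subgroupOf X := fun A => rfl
  rw [e, e, ← Subgroup.subgroupOf_sup (inf_le_left.trans h₁.1) (inf_le_left.trans h₂.1)] at h2
  exact h2

theorem le_normalizer_of_normal'' (N M : Subgroup G) [N.Normal] :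
    M ≤ Subgroup.normalizer (N : Set G) := by
  rw [Subgroup.normalizer_eq_top]; exact le_top

theorem le_sup_of_quotient {N S A₁ A₂ : Subgroup G} [N.Normal] (h : JoinSyl p (G ⧸ N))
    (hS : SylIn p S ⊤) (h₁ : A₁.IsSubnormal) (h₂ : A₂.IsSubnormal) (htop : A₁ ⊔ A₂ = ⊤) :
    S ≤ ((A₁ ⊓ S) ⊔ (A₂ ⊓ S)) ⊔ (N ⊓ S) := by
  have hsurj := QuotientGroup.mk'_surjective N
  have hS' : SylIn p (S.map (QuotientGroup.mk' N)) ⊤ := ⟨le_top, hS.2.1.map _, by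
    rw [Subgroup.relIndex_top_right]
    intro hd
    apply hS.2.2
    rw [Subgroup.relIndex_top_right]
    exact hd.trans (Subgroup.index_map_dvd _ hsurj)⟩
  have key := h _ _ _ hS' (h₁.map hsurj) (h₂.map hsurj)
  have hNS : SylIn p (N ⊓ S) N := by
    rw [inf_comm]; exact hS.inf_normal le_top (le_normalizer_of_normal'' N ⊤)
  have hA : ∀ A : Subgroup G, A.IsSubnormal →
      A.map (QuotientGroup.mk' N) ⊓ S.map (QuotientGroup.mk' N) ≤ (A ⊓ S).map (QuotientGroup.mk' N) := by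
    intro A hA y hy
    obtain ⟨⟨a, ha, hay⟩, ⟨s, hs, hsy⟩⟩ := hy
    have hAS : SylIn p (A ⊓ S) A := by rw [inf_comm]; exact hS.inf_subnIn (subnIn_top.mpr hA)
    have h1 : s ∈ (A ⊔ N) ⊓ S := by
      refine ⟨?_, hs⟩
      have h0 : a⁻¹ * s ∈ N := by
        rw [← QuotientGroup.eq_one_iff]
        have : QuotientGroup.mk' N (a⁻¹ * s) = 1 := by rw [map_mul, map_inv, hay, hsy, inv_mul_cancel]
        exact this
      have e : s = a * (a⁻¹ * s) := by group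
      rw [e]
      exact Subgroup.mul_mem _ (Subgroup.mem_sup_left ha) (Subgroup.mem_sup_right h0)
    have h2 := sup_inf_le_of_sylIn hS.2.1 hAS hNS (le_normalizer_of_normal'' N A) h1
    have h3 : QuotientGroup.mk' N s ∈ ((A ⊓ S) ⊔ (N ⊓ S)).map (QuotientGroup.mk' N) :=
      Subgroup.mem_map_of_mem _ h2
    have h4 : (N ⊓ S).map (QuotientGroup.mk' N) = ⊥ := by
      rw [Subgroup.map_eq_bot_iff, QuotientGroup.ker_mk']; exact inf_le_left
    rw [Subgroup.map_sup, h4, sup_bot_eq, hsy] at h3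
    exact h3
  have h5 : S.map (QuotientGroup.mk' N) ≤ ((A₁ ⊓ S) ⊔ (A₂ ⊓ S)).map (QuotientGroup.mk' N) := by
    rw [Subgroup.map_sup]
    refine le_trans ?_ (key.trans (sup_le_sup (hA A₁ h₁) (hA A₂ h₂)))
    rw [← Subgroup.map_sup, htop, ← MonoidHom.range_eq_map, MonoidHom.range_eq_top.mpr hsurj, top_inf_eq]
  have h6 := Subgroup.map_le_map_iff.mp h5
  rw [QuotientGroup.ker_mk'] at h6
  intro s hs
  obtain ⟨t, ht, n, hn, rfl⟩ := exists_mul_of_mem_sup' (le_normalizer_of_normal'' N _) (h6 hs)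
  have hT : (A₁ ⊓ S) ⊔ (A₂ ⊓ S) ≤ S := sup_le inf_le_right inf_le_right
  refine Subgroup.mul_mem _ (Subgroup.mem_sup_left ht) (Subgroup.mem_sup_right ⟨hn, ?_⟩)
  have := S.mul_mem (S.inv_mem (hT ht)) hs
  simpa using this

/-- transfer: in a group generated by `p'`-elements, central elements of a Sylow subgroup lie in its
derived subgroup. -/
theorem mem_commutator_of_mem_center {S : Subgroup G} (hS : SylIn p S ⊤)
    (hres : pRes p (⊤ : Subgroup G) = ⊤) {z : G} (hz : z ∈ Subgroup.center G) (hzS : z ∈ S) :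
    z ∈ ⁅S, S⁆ := by
  have key : ∀ (k : ℕ) (g₀ : G), g₀⁻¹ * z ^ k * g₀ ∈ S → g₀⁻¹ * z ^ k * g₀ = z ^ k := by
    intro k g₀ _
    have h1 : z ^ k ∈ Subgroup.center G := Subgroup.pow_mem _ hz k
    rw [mul_assoc, ← Subgroup.mem_center_iff.mp h1 g₀]
    simp
  have hAp : IsPGroup p (Abelianization ↥S) :=
    hS.2.1.of_surjective Abelianization.of (QuotientGroup.mk'_surjective _)
  have hker : pRes p (⊤ : Subgroup G) ≤
      (MonoidHom.transfer (Abelianization.of : ↥S →* Abelianization ↥S)).ker := by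
    rw [pRes_le_iff]
    intro x _ hx
    rw [MonoidHom.mem_ker]
    apply eq_one_of_coprime_of_pgroup (p := p)
    · exact Nat.Coprime.coprime_dvd_left (orderOf_map_dvd _ x) hx
    · exact hAp _
  have h1 := MonoidHom.transfer_eq_pow (Abelianization.of : ↥S →* Abelianization ↥S) z key
  have h0 : MonoidHom.transfer (Abelianization.of : ↥S →* Abelianization ↥S) z = 1 :=
    hker (by rw [hres]; exact Subgroup.mem_top z)
  rw [h0] at h1
  have h3 : z ^ S.index ∈ ⁅S, S⁆ := by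
    rw [← Subgroup.map_subtype_commutator]
    refine ⟨⟨z ^ S.index, S.pow_mem hzS _⟩, ?_, rfl⟩
    rw [SetLike.mem_coe, ← Abelianization.ker_of, MonoidHom.mem_ker]
    exact h1.symm
  obtain ⟨k, hk⟩ := IsPGroup.exists_pow_eq_one' hS.2.1 hzS
  have hcop : (S.index).Coprime (orderOf z) := by
    have h4 : orderOf z ∣ p ^ k := orderOf_dvd_of_pow_eq_one hk
    apply Nat.Coprime.coprime_dvd_right h4
    apply Nat.Coprime.pow_right
    have h5 := hS.2.2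
    rw [Subgroup.relIndex_top_right] at h5
    exact ((Nat.Prime.coprime_iff_not_dvd hp.out).mpr h5).symm
  obtain ⟨m, hm⟩ := exists_pow_eq_self_of_coprime hcop
  rw [← hm]
  exact Subgroup.pow_mem _ h3 m

theorem commutator_sup_center_le {T Z : Subgroup G} (hZ : Z ≤ Subgroup.center G) :
    ⁅T ⊔ Z, T ⊔ Z⁆ ≤ T := by
  have hb : ∀ X : Subgroup G, ⁅X, Z⁆ = ⊥ := by
    intro X
    rw [Subgroup.commutator_eq_bot_iff_le_centralizer, Subgroup.le_centralizer_iff]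
    exact hZ.trans (Subgroup.center_le_centralizer _)
  have hZn : Z ≤ Subgroup.normalizer (T : Set G) :=
    (hZ.trans (Subgroup.center_le_centralizer _)).trans (Subgroup.centralizer_le_normalizer _)
  have h1 : ⁅T, T ⊔ Z⁆ ≤ T :=
    commutator_sup_le Subgroup.le_normalizer hZn (Subgroup.commutator_le_self T) (by rw [hb]; exact bot_le)
  refine commutator_sup_le Subgroup.le_normalizer hZn ?_ (by rw [hb]; exact bot_le)
  rw [Subgroup.commutator_comm]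
  exact h1

theorem stepA_subSyl (hquot : ∀ (N : Subgroup G) [N.Normal], N ≠ ⊥ → JoinSyl p (G ⧸ N))
    {S R₁ R₂ : Subgroup G} (hS : SylIn p S ⊤) (h₁ : R₁.IsSubnormal) (h₂ : R₂.IsSubnormal)
    (hr₁ : pRes p R₁ = R₁) (hr₂ : pRes p R₂ = R₂) (htop : R₁ ⊔ R₂ = ⊤) :
    S ≤ (R₁ ⊓ S) ⊔ (R₂ ⊓ S) := by
  by_cases hG : (⊤ : Subgroup G) = ⊥
  · intro s _
    have : s ∈ (⊥ : Subgroup G) := hG ▸ Subgroup.mem_top s
    rw [Subgroup.mem_bot] at this
    rw [this]; exact Subgroup.one_mem _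
  obtain ⟨N, hN, -⟩ := Cfsg.Agent.Lib.Helper4.exists_minNormal_le (⊤ : Subgroup G) inferInstance hG
  haveI hNn : N.Normal := hN.1
  have hNR : ∀ R : Subgroup G, R.IsSubnormal → N ≤ Subgroup.normalizer (R : Set G) := fun R hR =>
    Cfsg.Agent.Lib.Helper4.minNormal_le_normalizer_of_subnormal _ rfl R hR N hN
  have hkey := le_sup_of_quotient (hquot N hN.2.1) hS h₁ h₂ htop
  suffices hsuff : N ⊓ S ≤ (R₁ ⊓ S) ⊔ (R₂ ⊓ S) from hkey.trans (sup_le le_rfl hsuff)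
  have hcomm : ∀ R : Subgroup G, N ≤ Subgroup.normalizer (R : Set G) → ∀ r ∈ R, ∀ x ∈ N,
      r * x * r⁻¹ * x⁻¹ ∈ N ⊓ R := by
    intro R hR r hr x hx
    refine ⟨N.mul_mem (hNn.conj_mem x hx r) (N.inv_mem hx), ?_⟩
    have h1 : x * r⁻¹ * x⁻¹ ∈ R := conj_mem_of_le_normalizer hR hx (R.inv_mem hr)
    have h2 := R.mul_mem hr h1
    simpa [mul_assoc] using h2
  have hc : ∀ R R' : Subgroup G, N ≤ Subgroup.normalizer (R : Set G) →
      N ⊓ R ≤ (N ⊓ R₁) ⊔ (N ⊓ R₂) → N ⊓ R' ≤ (N ⊓ R₁) ⊔ (N ⊓ R₂) → ∀ r ∈ R,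
      cj r (N ⊓ R') ≤ (N ⊓ R₁) ⊔ (N ⊓ R₂) := by
    intro R R' hR h1 h2 r hr y hy
    rw [mem_cj] at hy
    have h3 := hcomm R hR r hr _ hy.1
    have h4 := Subgroup.mul_mem _ (h1 h3) (h2 hy)
    simpa [mul_assoc] using h4
  have hDn : ((N ⊓ R₁) ⊔ (N ⊓ R₂)).Normal := by
    rw [← Subgroup.normalizer_eq_top_iff, eq_top_iff, ← htop]
    refine sup_le ?_ ?_
    · intro r hr
      apply mem_normalizer_of_conj_le
      have e : cj r ((N ⊓ R₁) ⊔ (N ⊓ R₂)) = cj r (N ⊓ R₁) ⊔ cj r (N ⊓ R₂) := Subgroup.map_sup _ _ _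
      change cj r ((N ⊓ R₁) ⊔ (N ⊓ R₂)) ≤ _
      rw [e]
      exact sup_le (hc R₁ R₁ (hNR R₁ h₁) le_sup_left le_sup_left r hr)
        (hc R₁ R₂ (hNR R₁ h₁) le_sup_left le_sup_right r hr)
    · intro r hr
      apply mem_normalizer_of_conj_le
      have e : cj r ((N ⊓ R₁) ⊔ (N ⊓ R₂)) = cj r (N ⊓ R₁) ⊔ cj r (N ⊓ R₂) := Subgroup.map_sup _ _ _
      change cj r ((N ⊓ R₁) ⊔ (N ⊓ R₂)) ≤ _
      rw [e]
      exact sup_le (hc R₂ R₁ (hNR R₂ h₂) le_sup_right le_sup_left r hr)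
        (hc R₂ R₂ (hNR R₂ h₂) le_sup_right le_sup_right r hr)
  rcases hN.2.2 _ hDn (sup_le inf_le_left inf_le_left) with hD | hD
  · -- `N` is central
    have hb₁ : N ⊓ R₁ = ⊥ := le_bot_iff.mp (hD ▸ le_sup_left)
    have hb₂ : N ⊓ R₂ = ⊥ := le_bot_iff.mp (hD ▸ le_sup_right)
    have hcen : ∀ R : Subgroup G, N ≤ Subgroup.normalizer (R : Set G) → N ⊓ R = ⊥ →
        N ≤ Subgroup.centralizer (R : Set G) := by
      intro R hR hb x hx
      rw [Subgroup.mem_centralizer_iff]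
      intro r hr
      have h1 := hcomm R hR r hr x hx
      rw [hb, Subgroup.mem_bot] at h1
      have h2 : r * x = x * r := by
        have := congrArg (fun w => w * x * r) h1
        simpa [mul_assoc] using this
      exact h2
    have hNZ : N ≤ Subgroup.center G := by
      have h1 : N ≤ Subgroup.centralizer ((R₁ ⊔ R₂ : Subgroup G) : Set G) := by
        rw [centralizer_sup_eq]
        exact le_inf (hcen R₁ (hNR R₁ h₁) hb₁) (hcen R₂ (hNR R₂ h₂) hb₂)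
      rwa [htop, Subgroup.coe_top, Subgroup.centralizer_univ] at h1
    have hres : pRes p (⊤ : Subgroup G) = ⊤ := by
      apply le_antisymm le_top
      have a1 : R₁ ≤ pRes p (⊤ : Subgroup G) := by
        calc R₁ = pRes p R₁ := hr₁.symm
          _ ≤ pRes p ⊤ := pRes_mono le_top
      have a2 : R₂ ≤ pRes p (⊤ : Subgroup G) := by
        calc R₂ = pRes p R₂ := hr₂.symm
          _ ≤ pRes p ⊤ := pRes_mono le_top
      calc (⊤ : Subgroup G) = R₁ ⊔ R₂ := htop.symm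
        _ ≤ pRes p ⊤ := sup_le a1 a2
    intro z hz
    have h1 := mem_commutator_of_mem_center hS hres (hNZ hz.1) hz.2
    have h2 : ⁅S, S⁆ ≤ (R₁ ⊓ S) ⊔ (R₂ ⊓ S) :=
      (Subgroup.commutator_mono hkey hkey).trans (commutator_sup_center_le (inf_le_left.trans hNZ))
    exact h2 h1
  · have hs₁ : SylIn p ((N ⊓ R₁) ⊓ S) (N ⊓ R₁) := by
      rw [inf_comm]
      exact hS.inf_subnIn ((subnIn_top.mpr hNn.isSubnormal).inf (subnIn_top.mpr h₁))
    have hs₂ : SylIn p ((N ⊓ R₂) ⊓ S) (N ⊓ R₂) := by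
      rw [inf_comm]
      exact hS.inf_subnIn ((subnIn_top.mpr hNn.isSubnormal).inf (subnIn_top.mpr h₂))
    have h1 := sup_inf_le_of_sylIn hS.2.1 hs₁ hs₂
      (inf_le_left.trans (le_normalizer_inf Subgroup.le_normalizer (hNR R₂ h₂)))
    rw [hD] at h1
    exact h1.trans (sup_le_sup (inf_le_inf_right _ inf_le_right) (inf_le_inf_right _ inf_le_right))

theorem enlarge_subSyl (hsub : ∀ X : Subgroup G, X ≠ ⊤ → JoinSyl p ↥X) {S A₁ A₂ : Subgroup G}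
    (hS : SylIn p S ⊤) (h₁ : A₁.IsSubnormal) {t : G} (ht : t ∈ A₂ ⊓ S) (hne : A₁ ≠ ⊤) :
    (A₁ ⊔ cj t A₁) ⊓ S ≤ (A₁ ⊓ S) ⊔ (A₂ ⊓ S) := by
  obtain ⟨N, hAN, hNlt, hNn, hs⟩ := (subnIn_top.mpr h₁).exists_normal hne
  have hle : cj t A₁ ≤ N := by
    calc cj t A₁ ≤ cj t N := cj_mono hAN
      _ = N := cj_eq_of_mem_normalizer (hNn (Subgroup.mem_top t))
  have hSN : SylIn p (S ⊓ N) N := hS.inf_normal le_top hNn
  have hs' : SubnIn (cj t A₁) N := (subnIn_top.mpr (isSubnormal_conj h₁ t)).of_le hle le_top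
  have rel := (hsub N hNlt.ne).rel hSN hs hs'
  intro x hx
  have h1 := rel ⟨hx.1, hx.2, (sup_le hAN hle) hx.1⟩
  refine (sup_le ?_ ?_ : (A₁ ⊓ (S ⊓ N)) ⊔ (cj t A₁ ⊓ (S ⊓ N)) ≤ _) h1
  · exact le_sup_of_le_left (inf_le_inf_left _ inf_le_left)
  · intro y hy
    have h2 : t⁻¹ * y * t ∈ A₁ ⊓ S :=
      ⟨mem_cj.mp hy.1, S.mul_mem (S.mul_mem (S.inv_mem ht.2) hy.2.1) ht.2⟩
    have h3 : t ∈ (A₁ ⊓ S) ⊔ (A₂ ⊓ S) := Subgroup.mem_sup_right ht
    have h4 := Subgroup.mul_mem _ (Subgroup.mul_mem _ h3 (Subgroup.mem_sup_left h2)) (Subgroup.inv_mem _ h3)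
    simpa [mul_assoc] using h4

theorem card_lt_of_lt' {A B : Subgroup G} (h : A < B) : Nat.card A < Nat.card B := by
  by_contra hc
  exact h.ne (Subgroup.eq_of_le_of_card_ge h.le (not_lt.mp hc))

theorem stepB_subSyl (hquot : ∀ (N : Subgroup G) [N.Normal], N ≠ ⊥ → JoinSyl p (G ⧸ N))
    (hsub : ∀ X : Subgroup G, X ≠ ⊤ → JoinSyl p ↥X) {S : Subgroup G} (hS : SylIn p S ⊤) :
    ∀ (m : ℕ) (A₁ A₂ : Subgroup G), Nat.card A₁ + Nat.card A₂ + m = 2 * Nat.card G →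
      A₁.IsSubnormal → A₂.IsSubnormal → A₁ ⊔ A₂ = ⊤ → S ≤ (A₁ ⊓ S) ⊔ (A₂ ⊓ S) := by
  intro m
  induction m using Nat.strong_induction_on with
  | _ m ih =>
  intro A₁ A₂ hm h₁ h₂ htop
  -- the enlargement step
  have step : ∀ B₁ B₂ : Subgroup G, Nat.card B₁ + Nat.card B₂ + m = 2 * Nat.card G →
      B₁.IsSubnormal → B₂.IsSubnormal → B₁ ⊔ B₂ = ⊤ → (∃ t ∈ B₂ ⊓ S, cj t B₁ ≠ B₁) →
      S ≤ (B₁ ⊓ S) ⊔ (B₂ ⊓ S) := by
    intro B₁ B₂ hm' hb₁ hb₂ hbtop ⟨t, ht, hne⟩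
    have hB₁ : B₁ ≠ ⊤ := by
      rintro rfl
      apply hne
      exact cj_eq_of_mem_normalizer (by rw [Subgroup.normalizer_eq_top]; trivial)
    have hlt : B₁ < B₁ ⊔ cj t B₁ := by
      refine lt_of_le_of_ne le_sup_left ?_
      intro e
      apply hne
      have h0 : cj t B₁ ≤ B₁ := by
        calc cj t B₁ ≤ B₁ ⊔ cj t B₁ := le_sup_right
          _ = B₁ := e.symm
      exact conj_eq_of_le h0
    have hsubn : (B₁ ⊔ cj t B₁).IsSubnormal :=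
      Cfsg.Agent.Lib.Helper4.isSubnormal_sup hb₁ (isSubnormal_conj hb₁ t)
    have htop' : (B₁ ⊔ cj t B₁) ⊔ B₂ = ⊤ := by
      rw [eq_top_iff, ← hbtop]
      exact sup_le_sup_right le_sup_left _
    have henl := enlarge_subSyl hsub hS hb₁ ht hB₁
    obtain ⟨B', hB'⟩ : ∃ B', B' = B₁ ⊔ cj t B₁ := ⟨_, rfl⟩
    rw [← hB'] at hlt hsubn htop' henl
    have hc := card_lt_of_lt' hlt
    have b1 := Subgroup.card_le_card_group B'
    have b2 := Subgroup.card_le_card_group B₂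
    obtain ⟨m', hm''⟩ : ∃ m', Nat.card B' + Nat.card B₂ + m' = 2 * Nat.card G :=
      ⟨2 * Nat.card G - Nat.card B' - Nat.card B₂, by omega⟩
    have h3 := ih m' (by omega) B' B₂ hm'' hsubn hb₂ htop'
    exact h3.trans (sup_le henl le_sup_right)
  by_cases hc1 : ∃ t ∈ A₂ ⊓ S, cj t A₁ ≠ A₁
  · exact step A₁ A₂ hm h₁ h₂ htop hc1
  by_cases hc2 : ∃ t ∈ A₁ ⊓ S, cj t A₂ ≠ A₂
  · have := step A₂ A₁ (by omega) h₂ h₁ (by rw [sup_comm]; exact htop) hc2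
    rwa [sup_comm] at this
  push Not at hc1 hc2
  have hs₁ : SylIn p (A₁ ⊓ S) A₁ := by rw [inf_comm]; exact hS.inf_subnIn (subnIn_top.mpr h₁)
  have hs₂ : SylIn p (A₂ ⊓ S) A₂ := by rw [inf_comm]; exact hS.inf_subnIn (subnIn_top.mpr h₂)
  have n11 : A₁ ⊓ S ≤ Subgroup.normalizer ((pRes p A₁ : Subgroup G) : Set G) :=
    inf_le_left.trans (le_normalizer_pRes A₁)
  have n22 : A₂ ⊓ S ≤ Subgroup.normalizer ((pRes p A₂ : Subgroup G) : Set G) :=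
    inf_le_left.trans (le_normalizer_pRes A₂)
  have n21 : A₂ ⊓ S ≤ Subgroup.normalizer ((pRes p A₁ : Subgroup G) : Set G) :=
    le_trans (show A₂ ⊓ S ≤ Subgroup.normalizer (A₁ : Set G) from
      fun t ht => mem_normalizer_of_cj_eq (hc1 t ht)) (normalizer_le_normalizer_pRes A₁)
  have n12 : A₁ ⊓ S ≤ Subgroup.normalizer ((pRes p A₂ : Subgroup G) : Set G) :=
    le_trans (show A₁ ⊓ S ≤ Subgroup.normalizer (A₂ : Set G) from
      fun t ht => mem_normalizer_of_cj_eq (hc2 t ht)) (normalizer_le_normalizer_pRes A₂)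
  have hsupn := Cfsg.Agent.Lib.Helper4.normalizer_inf_le_normalizer_sup (pRes p A₁) (pRes p A₂)
  have hTn : (A₁ ⊓ S) ⊔ (A₂ ⊓ S) ≤
      Subgroup.normalizer ((pRes p A₁ ⊔ pRes p A₂ : Subgroup G) : Set G) :=
    sup_le ((le_inf n11 n12).trans hsupn) ((le_inf n21 n22).trans hsupn)
  have hRT : pRes p A₁ ⊔ pRes p A₂ ⊔ ((A₁ ⊓ S) ⊔ (A₂ ⊓ S)) = ⊤ := by
    have a1 : A₁ ≤ pRes p A₁ ⊔ pRes p A₂ ⊔ ((A₁ ⊓ S) ⊔ (A₂ ⊓ S)) := by
      calc A₁ = pRes p A₁ ⊔ (A₁ ⊓ S) := (pRes_sup_sylIn hs₁).symm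
        _ ≤ _ := sup_le (le_sup_of_le_left le_sup_left) (le_sup_of_le_right le_sup_left)
    have a2 : A₂ ≤ pRes p A₁ ⊔ pRes p A₂ ⊔ ((A₁ ⊓ S) ⊔ (A₂ ⊓ S)) := by
      calc A₂ = pRes p A₂ ⊔ (A₂ ⊓ S) := (pRes_sup_sylIn hs₂).symm
        _ ≤ _ := sup_le (le_sup_of_le_left le_sup_right) (le_sup_of_le_right le_sup_right)
    apply le_antisymm le_top
    calc (⊤ : Subgroup G) = A₁ ⊔ A₂ := htop.symm
      _ ≤ _ := sup_le a1 a2
  have hT : (A₁ ⊓ S) ⊔ (A₂ ⊓ S) ≤ S := sup_le inf_le_right inf_le_right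
  have hr₁ : (pRes p A₁).IsSubnormal :=
    (SubnIn.of_normal (pRes_le A₁) (le_normalizer_pRes A₁)).isSubnormal h₁
  have hr₂ : (pRes p A₂).IsSubnormal :=
    (SubnIn.of_normal (pRes_le A₂) (le_normalizer_pRes A₂)).isSubnormal h₂
  have hRS : (pRes p A₁ ⊔ pRes p A₂) ⊓ S ≤ (A₁ ⊓ S) ⊔ (A₂ ⊓ S) := by
    have hmono : (pRes p A₁ ⊓ S) ⊔ (pRes p A₂ ⊓ S) ≤ (A₁ ⊓ S) ⊔ (A₂ ⊓ S) :=
      sup_le_sup (inf_le_inf_right _ (pRes_le A₁)) (inf_le_inf_right _ (pRes_le A₂))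
    by_cases hR : pRes p A₁ ⊔ pRes p A₂ = ⊤
    · rw [hR, top_inf_eq]
      exact (stepA_subSyl hquot hS hr₁ hr₂ (pRes_idem A₁) (pRes_idem A₂) hR).trans hmono
    · have hRsub := Cfsg.Agent.Lib.Helper4.isSubnormal_sup hr₁ hr₂
      have rel := (hsub _ hR).rel (hS.inf_subnIn (subnIn_top.mpr hRsub))
        ((subnIn_top.mpr hr₁).of_le le_sup_left le_top) ((subnIn_top.mpr hr₂).of_le le_sup_right le_top)
      intro x hx
      have h1 := rel ⟨hx.1, hx.2, hx.1⟩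
      have hle : (pRes p A₁ ⊓ (S ⊓ (pRes p A₁ ⊔ pRes p A₂))) ⊔ (pRes p A₂ ⊓ (S ⊓ (pRes p A₁ ⊔ pRes p A₂))) ≤
          (pRes p A₁ ⊓ S) ⊔ (pRes p A₂ ⊓ S) :=
        sup_le_sup (inf_le_inf_left _ inf_le_left) (inf_le_inf_left _ inf_le_left)
      exact hmono (hle h1)
  intro s hs
  have hs' : s ∈ pRes p A₁ ⊔ pRes p A₂ ⊔ ((A₁ ⊓ S) ⊔ (A₂ ⊓ S)) := hRT ▸ Subgroup.mem_top s
  obtain ⟨r, hr, t, ht, rfl⟩ := exists_mul_of_mem_sup hTn hs'
  have hrS : r ∈ S := by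
    have := S.mul_mem hs (S.inv_mem (hT ht))
    simpa using this
  exact Subgroup.mul_mem _ (hRS ⟨hr, hrS⟩) ht

end

theorem joinSyl_all (p : ℕ) [hp : Fact p.Prime] : ∀ (n : ℕ) (G : Type u) [Group G] [Finite G],
    Nat.card G = n → JoinSyl p G := by
  intro n
  induction n using Nat.strong_induction_on with
  | _ n ih =>
  intro G _ _ hn S A₁ A₂ hS h₁ h₂
  have hsub : ∀ X : Subgroup G, X ≠ ⊤ → JoinSyl p ↥X := fun X hX =>
    ih (Nat.card X) (by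
      rw [← hn, ← Subgroup.card_top (G := G)]
      exact card_lt_of_lt' (lt_top_iff_ne_top.mpr hX)) ↥X rfl
  have hquot : ∀ (N : Subgroup G) [N.Normal], N ≠ ⊥ → JoinSyl p (G ⧸ N) := fun N _ hN =>
    ih (Nat.card (G ⧸ N)) (by
      rw [← hn, ← Subgroup.index_eq_card, ← Subgroup.card_mul_index N]
      have h1 : 1 < Nat.card N := by
        rcases Nat.lt_or_ge 1 (Nat.card N) with h | h
        · exact h
        · exact absurd (Subgroup.card_eq_one.mp (le_antisymm h Nat.card_pos)) hN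
      have h2 : 0 < N.index := Nat.pos_of_ne_zero N.index_ne_zero_of_finite
      nlinarith) (G ⧸ N) rfl
  by_cases htop : A₁ ⊔ A₂ = ⊤
  · rw [htop, top_inf_eq]
    have b1 := Subgroup.card_le_card_group A₁
    have b2 := Subgroup.card_le_card_group A₂
    exact stepB_subSyl hquot hsub hS (2 * Nat.card G - Nat.card A₁ - Nat.card A₂) A₁ A₂ (by omega)
      h₁ h₂ htop
  · have hA := Cfsg.Agent.Lib.Helper4.isSubnormal_sup h₁ h₂
    have rel := (hsub _ htop).rel (hS.inf_subnIn (subnIn_top.mpr hA))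
      ((subnIn_top.mpr h₁).of_le le_sup_left le_top) ((subnIn_top.mpr h₂).of_le le_sup_right le_top)
    intro x hx
    have h1 := rel ⟨hx.1, hx.2, hx.1⟩
    have hle : (A₁ ⊓ (S ⊓ (A₁ ⊔ A₂))) ⊔ (A₂ ⊓ (S ⊓ (A₁ ⊔ A₂))) ≤ (A₁ ⊓ S) ⊔ (A₂ ⊓ S) :=
      sup_le_sup (inf_le_inf_left _ inf_le_left) (inf_le_inf_left _ inf_le_left)
    exact hle h1

end Cfsg.Agent.Lib.Helper16
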