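import Cfsg.Agent.Lib.Helper16.Kieler
import Cfsg.Agent.Lib.Helper16.SubSyl
import Cfsg.Prelude.Def_LocalEven

set_option autoImplicit false
set_option linter.unusedSectionVars false
open Cfsg
open Cfsg.Agent.Lib.Helper8 (SubnIn subnIn_top)

namespace Cfsg.Agent.Lib.Helper16

universe u
variable {G : Type u} [Group G]

/-- local characteristic `p`, ambient form. -/
def LocCharP (p : ℕ) (X : Subgroup G) : Prop :=
  ∀ U : Subgroup G, U ≤ X → IsPGroup p U → U ≠ ⊥ → CharP p (X ⊓ Subgroup.normalizer (U : Set G))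

/-- the subgroup generated by the `p`-elements of `C_L(Z)`. -/
def PS (p : ℕ) (L Z : Subgroup G) : Subgroup G :=
  Subgroup.closure {x : G | x ∈ L ⊓ Subgroup.centralizer (Z : Set G) ∧ ∃ k : ℕ, orderOf x = p ^ k}

section
variable [Finite G] {p : ℕ} [hp : Fact p.Prime] {X T N L D Y S₀ : Subgroup G}

theorem oZ_le (T : Subgroup G) : omegaOne p (T ⊓ Subgroup.centralizer (T : Set G)) ≤ T :=
  (omegaOne_le p _).trans inf_le_left

theorem oZ_ne_bot (hT : IsPGroup p T) (h : T ≠ ⊥) :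
    omegaOne p (T ⊓ Subgroup.centralizer (T : Set G)) ≠ ⊥ := by
  obtain ⟨x, hx, hxp⟩ := exists_orderOf_eq_of_ne_bot (hT.to_le inf_le_left) (center_ne_bot hT h)
  intro e
  have h1 : x ∈ omegaOne p (T ⊓ Subgroup.centralizer (T : Set G)) :=
    mem_omegaOne hx (by rw [← hxp]; exact pow_orderOf_eq_one x)
  rw [e, Subgroup.mem_bot] at h1
  rw [h1, orderOf_one] at hxp
  exact hp.out.one_lt.ne hxp

theorem le_centralizer_oZ (T : Subgroup G) :
    T ≤ Subgroup.centralizer (omegaOne p (T ⊓ Subgroup.centralizer (T : Set G)) : Set G) := by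
  rw [Subgroup.le_centralizer_iff]
  exact (omegaOne_le p _).trans inf_le_right

theorem normalizer_le_normalizer_oZ (T : Subgroup G) :
    Subgroup.normalizer (T : Set G) ≤
      Subgroup.normalizer (omegaOne p (T ⊓ Subgroup.centralizer (T : Set G)) : Set G) :=
  (le_normalizer_inf le_rfl (normalizer_le_normalizer_centralizer T)).trans
    (normalizer_le_normalizer_omegaOne p _)

theorem LocCharP.of_subnIn (h : LocCharP p X) (hL : SubnIn L X) : LocCharP p L := by
  intro U hU hUp hne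
  apply (h U (hU.trans hL.1) hUp hne).of_subnIn
  have h1 := hL.restrict (inf_le_left : X ⊓ Subgroup.normalizer (U : Set G) ≤ X)
  have e : L ⊓ (X ⊓ Subgroup.normalizer (U : Set G)) = L ⊓ Subgroup.normalizer (U : Set G) := by
    rw [← inf_assoc, inf_eq_left.mpr hL.1]
  rwa [e] at h1

theorem kieler_loc_aux (hX : LocCharP p X) (hT : SylIn p T X) (hNX : N ≤ X)
    (hn : X ≤ Subgroup.normalizer (N : Set G)) {W : Subgroup G} (hWX : W ≤ X) (hWp : IsPGroup p W)
    (hW : W ≠ ⊥) (hTW : T ≤ Subgroup.normalizer (W : Set G)) :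
    (N ⊓ Subgroup.normalizer (W : Set G)) ⊓
        Subgroup.centralizer (omegaOne p (T ⊓ Subgroup.centralizer (T : Set G)) : Set G) =
      (N ⊓ Subgroup.normalizer (W : Set G)) ⊓ Subgroup.centralizer (omegaOne p ((T ⊓ N) ⊓
        Subgroup.centralizer ((T ⊓ N : Subgroup G) : Set G)) : Set G) := by
  have hB := hX W hWX hWp hW
  have hTB : SylIn p T (X ⊓ Subgroup.normalizer (W : Set G)) := hT.mono (le_inf hT.1 hTW) inf_le_left
  have h1 := kieler_normal hB hTB (N := N ⊓ Subgroup.normalizer (W : Set G))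
    (inf_le_inf_right _ hNX)
    (le_normalizer_inf (inf_le_left.trans hn) (inf_le_right.trans Subgroup.le_normalizer))
  have e : T ⊓ (N ⊓ Subgroup.normalizer (W : Set G)) = T ⊓ N := by
    rw [← inf_assoc]
    exact inf_eq_left.mpr (inf_le_left.trans hTW)
  rwa [e] at h1

theorem kieler_loc_normal (hX : LocCharP p X) (hT : SylIn p T X) (hNX : N ≤ X)
    (hn : X ≤ Subgroup.normalizer (N : Set G)) (hne : T ⊓ N ≠ ⊥) :
    N ⊓ Subgroup.centralizer (omegaOne p (T ⊓ Subgroup.centralizer (T : Set G)) : Set G) =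
      N ⊓ Subgroup.centralizer (omegaOne p ((T ⊓ N) ⊓
        Subgroup.centralizer ((T ⊓ N : Subgroup G) : Set G)) : Set G) := by
  have hT1 : T ≠ ⊥ := by
    rintro rfl
    exact hne (by simp)
  apply le_antisymm
  · have h1 := kieler_loc_aux hX hT hNX hn ((oZ_le T).trans hT.1) (hT.2.1.to_le (oZ_le T))
      (oZ_ne_bot hT.2.1 hT1) (Subgroup.le_normalizer.trans (normalizer_le_normalizer_oZ T))
    intro x hx
    have h2 : x ∈ (N ⊓ Subgroup.normalizer
        (omegaOne p (T ⊓ Subgroup.centralizer (T : Set G)) : Set G)) ⊓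
        Subgroup.centralizer (omegaOne p (T ⊓ Subgroup.centralizer (T : Set G)) : Set G) :=
      ⟨⟨hx.1, Subgroup.centralizer_le_normalizer _ hx.2⟩, hx.2⟩
    rw [h1] at h2
    exact ⟨hx.1, h2.2⟩
  · have hTn : T ≤ Subgroup.normalizer ((T ⊓ N : Subgroup G) : Set G) :=
      le_normalizer_inf Subgroup.le_normalizer (hT.1.trans hn)
    have h1 := kieler_loc_aux hX hT hNX hn ((oZ_le (T ⊓ N)).trans (inf_le_left.trans hT.1))
      (hT.2.1.to_le ((oZ_le (T ⊓ N)).trans inf_le_left))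
      (oZ_ne_bot (hT.2.1.to_le inf_le_left) hne) (hTn.trans (normalizer_le_normalizer_oZ (T ⊓ N)))
    intro x hx
    have h2 : x ∈ (N ⊓ Subgroup.normalizer
        (omegaOne p ((T ⊓ N) ⊓ Subgroup.centralizer ((T ⊓ N : Subgroup G) : Set G)) : Set G)) ⊓
        Subgroup.centralizer (omegaOne p ((T ⊓ N) ⊓
          Subgroup.centralizer ((T ⊓ N : Subgroup G) : Set G)) : Set G) :=
      ⟨⟨hx.1, Subgroup.centralizer_le_normalizer _ hx.2⟩, hx.2⟩
    rw [← h1] at h2
    exact ⟨hx.1, h2.2⟩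

/-- the Kieler Lemma for groups of local characteristic `p`. -/
theorem kieler_loc : ∀ {X T : Subgroup G}, LocCharP p X → SylIn p T X → SubnIn L X → T ⊓ L ≠ ⊥ →
    L ⊓ Subgroup.centralizer (omegaOne p (T ⊓ Subgroup.centralizer (T : Set G)) : Set G) =
      L ⊓ Subgroup.centralizer (omegaOne p ((T ⊓ L) ⊓
        Subgroup.centralizer ((T ⊓ L : Subgroup G) : Set G)) : Set G) := by
  intro X
  induction X using (wellFounded_lt (α := Subgroup G)).induction with
  | _ X ih =>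
    intro T hX hT hL hne
    by_cases hLX : L = X
    · rw [inf_eq_left.mpr (hLX ▸ hT.1 : T ≤ L)]
    · obtain ⟨N, hLN, hNX, hXN, hs⟩ := hL.exists_normal hLX
      have e : T ⊓ N ⊓ L = T ⊓ L := by rw [inf_assoc, inf_eq_right.mpr hLN]
      have h1 := ih N hNX (hX.of_subnIn (SubnIn.of_normal hNX.le hXN)) (hT.inf_normal hNX.le hXN) hs
        (by rw [e]; exact hne)
      have hne2 : T ⊓ N ≠ ⊥ := by
        intro e2
        apply hne
        rw [← le_bot_iff, ← e2]
        exact inf_le_inf_left _ hLN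
      have h2 := kieler_loc_normal hX hT hNX.le hXN hne2
      rw [e] at h1
      rw [← h1, ← inf_eq_left.mpr hLN, inf_assoc, inf_assoc, h2]

theorem isPGroup_zpowers_of_orderOf_pow {x : G} {k : ℕ} (hx : orderOf x = p ^ k) :
    IsPGroup p (Subgroup.zpowers x) :=
  IsPGroup.of_card (n := k) (by rw [Nat.card_zpowers, hx])

theorem eq_one_of_sylIn_bot (hs : SylIn p ⊥ L) {x : G} (hx : x ∈ L) {k : ℕ}
    (hk : orderOf x = p ^ k) : x = 1 := by
  have h1 := hs.card_le (isPGroup_zpowers_of_orderOf_pow hk) (Subgroup.zpowers_le.mpr hx)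
  rw [Nat.card_zpowers, Subgroup.card_bot] at h1
  exact orderOf_eq_one_iff.mp (le_antisymm h1 (orderOf_pos x))

theorem pointStabilizer_eq_PS (hH : LocCharP p (⊤ : Subgroup G)) (hT : SylIn p T ⊤)
    (hL : SubnIn L ⊤) :
    pointStabilizer p L (T ⊓ L) = PS p L (omegaOne p (T ⊓ Subgroup.centralizer (T : Set G))) := by
  unfold pointStabilizer PS
  by_cases h : T ⊓ L = ⊥
  · have hs : SylIn p ⊥ L := h ▸ hT.inf_subnIn hL
    congr 1
    ext x
    constructor
    · rintro ⟨hx, k, hk⟩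
      have := eq_one_of_sylIn_bot hs hx.1 hk
      subst this
      exact ⟨Subgroup.one_mem _, k, hk⟩
    · rintro ⟨hx, k, hk⟩
      have := eq_one_of_sylIn_bot hs hx.1 hk
      subst this
      exact ⟨Subgroup.one_mem _, k, hk⟩
  · rw [kieler_loc hH hT hL h]

theorem PS_le (L Z : Subgroup G) : PS p L Z ≤ L ⊓ Subgroup.centralizer (Z : Set G) := by
  unfold PS
  rw [Subgroup.closure_le]
  exact fun x hx => hx.1

theorem PS_mono {L L' : Subgroup G} (h : L ≤ L') (Z : Subgroup G) : PS p L Z ≤ PS p L' Z :=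
  Subgroup.closure_mono fun _ hx => ⟨inf_le_inf_right _ h hx.1, hx.2⟩

theorem le_normalizer_PS (L Z : Subgroup G) :
    L ⊓ Subgroup.centralizer (Z : Set G) ≤ Subgroup.normalizer (PS p L Z : Set G) := by
  intro g hg
  apply mem_normalizer_of_conj_le
  rw [Subgroup.map_le_iff_le_comap]
  unfold PS
  rw [Subgroup.closure_le]
  rintro x ⟨hx, k, hk⟩
  rw [SetLike.mem_coe, Subgroup.mem_comap]
  apply Subgroup.subset_closure
  refine ⟨?_, k, ?_⟩
  · exact Subgroup.mul_mem _ (Subgroup.mul_mem _ hg hx) (Subgroup.inv_mem _ hg)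
  · have : (MulAut.conj g).toMonoidHom x = g * x * g⁻¹ := rfl
    rw [this, orderOf_conj', hk]

theorem mem_of_subnIn_of_sylIn_le : ∀ {Y : Subgroup G}, SubnIn D Y → SylIn p S₀ Y → S₀ ≤ D →
    ∀ x ∈ Y, (∃ k : ℕ, orderOf x = p ^ k) → x ∈ D := by
  intro Y
  induction Y using (wellFounded_lt (α := Subgroup G)).induction with
  | _ Y ih =>
    intro hD hS hle x hx hk
    by_cases hDY : D = Y
    · rw [hDY]; exact hx
    · obtain ⟨N, hDN, hNY, hYN, hs⟩ := hD.exists_normal hDY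
      obtain ⟨k, hk'⟩ := hk
      obtain ⟨l, hl, hlS⟩ := hS.exists_conj_le (isPGroup_zpowers_of_orderOf_pow hk')
        (Subgroup.zpowers_le.mpr hx)
      have h1 : l * x * l⁻¹ ∈ N := hDN (hle (hlS (conj_mem_conj (Subgroup.mem_zpowers x))))
      have h2 : x ∈ N := by
        have := conj_mem_of_le_normalizer hYN (Y.inv_mem hl) h1
        simpa [mul_assoc] using this
      exact ih N hNY hs (hS.mono (hle.trans hDN) hNY.le) hle x h2 ⟨k, hk'⟩

theorem exists_orderOf_eq_pow (hT : IsPGroup p T) {x : G} (hx : x ∈ T) :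
    ∃ k : ℕ, orderOf x = p ^ k := by
  obtain ⟨k, hk⟩ := IsPGroup.exists_pow_eq_one' hT hx
  obtain ⟨j, -, hj⟩ := (Nat.dvd_prime_pow hp.out).mp (orderOf_dvd_of_pow_eq_one hk)
  exact ⟨j, hj⟩

theorem pointStabilizer_sup (hH : LocCharP p (⊤ : Subgroup G)) {T L₁ L₂ : Subgroup G}
    (hT : SylIn p T ⊤) (h₁ : L₁.IsSubnormal) (h₂ : L₂.IsSubnormal) :
    pointStabilizer p (L₁ ⊔ L₂) (T ⊓ (L₁ ⊔ L₂)) =
      pointStabilizer p L₁ (T ⊓ L₁) ⊔ pointStabilizer p L₂ (T ⊓ L₂) := by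
  have h₁₂ := Cfsg.Agent.Lib.Helper4.isSubnormal_sup h₁ h₂
  rw [pointStabilizer_eq_PS hH hT (subnIn_top.mpr h₁₂), pointStabilizer_eq_PS hH hT (subnIn_top.mpr h₁),
    pointStabilizer_eq_PS hH hT (subnIn_top.mpr h₂)]
  obtain ⟨Z, hZ⟩ : ∃ Z, Z = omegaOne p (T ⊓ Subgroup.centralizer (T : Set G)) := ⟨_, rfl⟩
  have hTC : T ≤ Subgroup.centralizer (Z : Set G) := hZ ▸ le_centralizer_oZ T
  rw [← hZ]
  apply le_antisymm _ (sup_le (PS_mono le_sup_left Z) (PS_mono le_sup_right Z))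
  have hTs : SylIn p T (Subgroup.centralizer (Z : Set G)) := hT.mono hTC le_top
  have hsub : ∀ L : Subgroup G, L.IsSubnormal →
      SubnIn (L ⊓ Subgroup.centralizer (Z : Set G)) (Subgroup.centralizer (Z : Set G)) :=
    fun L hL => (subnIn_top.mpr hL).restrict le_top
  have hPS : ∀ L : Subgroup G, L.IsSubnormal → SubnIn (PS p L Z) (Subgroup.centralizer (Z : Set G)) :=
    fun L hL => (SubnIn.of_normal (PS_le L Z) (le_normalizer_PS L Z)).trans (hsub L hL)
  have hD : SubnIn (PS p L₁ Z ⊔ PS p L₂ Z) ((L₁ ⊔ L₂) ⊓ Subgroup.centralizer (Z : Set G)) :=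
    (SubnIn.sup' (hPS L₁ h₁) (hPS L₂ h₂)).of_le
      (sup_le ((PS_le L₁ Z).trans (inf_le_inf_right _ le_sup_left))
        ((PS_le L₂ Z).trans (inf_le_inf_right _ le_sup_right))) inf_le_right
  have hS0 := hTs.inf_subnIn (hsub _ h₁₂)
  have hmem : ∀ L : Subgroup G, L ⊓ T ≤ PS p L Z := by
    intro L x hx
    exact Subgroup.subset_closure ⟨⟨hx.1, hTC hx.2⟩, exists_orderOf_eq_pow hT.2.1 hx.2⟩
  have hle : T ⊓ ((L₁ ⊔ L₂) ⊓ Subgroup.centralizer (Z : Set G)) ≤ PS p L₁ Z ⊔ PS p L₂ Z := by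
    intro x hx
    have h1 := joinSyl_all p _ G rfl T L₁ L₂ hT h₁ h₂ ⟨hx.2.1, hx.1⟩
    exact (sup_le_sup (hmem L₁) (hmem L₂)) h1
  unfold PS
  rw [Subgroup.closure_le]
  rintro x ⟨hx, hk⟩
  exact mem_of_subnIn_of_sylIn_le hD hS0 hle x hx hk

end

end Cfsg.Agent.Lib.Helper16
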