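import Mathlib
import Cfsg.Agent.Lib.Helper2.ZStarGen
import Cfsg.Agent.Lib.Helper8.Cores

/-! Strongly closed 2-subgroups centralize disjoint invariant core-free subgroups (via `Z*`). -/

set_option autoImplicit false

namespace Cfsg.Agent.Lib.Helper16

open Cfsg

theorem stronglyClosed_centralizes_aux {X : Type*} [Group X] [Finite X] (H A : Subgroup X) [hHn : H.Normal]
    (hHA : H ⊔ A = ⊤) (hdisj : A ⊓ H = ⊥) (hO : Cfsg.pPrimeCore 2 ↥H = ⊥)
    (T : Sylow 2 X) (hAT : A ≤ (T : Subgroup X))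
    (hcl : ∀ a ∈ A, ∀ g : X, g * a * g⁻¹ ∈ T → g * a * g⁻¹ ∈ A) :
    A ≤ Subgroup.centralizer (H : Set X) := by
  have : Fact (Nat.Prime 2) := ⟨Nat.prime_two⟩
  by_contra hcon
  set K : Subgroup X := A ⊓ Subgroup.centralizer (H : Set X) with hK
  have hKA : K ≤ A := inf_le_left
  have hKn : K.Normal := by
    rw [← Subgroup.normalizer_eq_top_iff, eq_top_iff, ← hHA]
    refine sup_le ?_ ?_
    · intro h hh
      rw [Subgroup.mem_normalizer_iff]
      intro k
      constructor
      · intro hk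
        have hc := Subgroup.mem_centralizer_iff.mp hk.2 h hh
        have e : h * k * h⁻¹ = k := by rw [hc]; group
        rw [e]; exact hk
      · intro hk
        have hc := Subgroup.mem_centralizer_iff.mp hk.2 h hh
        have e : k = h * k * h⁻¹ := by
          have : h * (h * k * h⁻¹) = h * k * h⁻¹ * h := hc
          have h2 : h * k * h⁻¹ * h = h * k := by group
          rw [h2] at this
          exact (mul_left_cancel this).symm
        rw [e]; exact hk
    · intro a ha
      rw [Subgroup.mem_normalizer_iff]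
      intro k
      have hCn : (Subgroup.centralizer (H : Set X)).Normal := inferInstance
      constructor
      · intro hk
        exact ⟨A.mul_mem (A.mul_mem ha hk.1) (A.inv_mem ha), hCn.conj_mem k hk.2 a⟩
      · intro hk
        have e : k = a⁻¹ * (a * k * a⁻¹) * a⁻¹⁻¹ := by group
        rw [e]
        exact ⟨A.mul_mem (A.mul_mem (A.inv_mem ha) hk.1) (A.inv_mem (A.inv_mem ha)),
          hCn.conj_mem _ hk.2 a⁻¹⟩
  set π := QuotientGroup.mk' K with hπ
  have hker : ∀ x : X, π x = 1 ↔ x ∈ K := fun x => QuotientGroup.eq_one_iff x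
  -- a noncentralizing element central mod K
  have hA2 : IsPGroup 2 A := T.2.to_le hAT
  have hAb2 : IsPGroup 2 (A.map π) := hA2.map π
  obtain ⟨a₀, ha₀, ha₀C⟩ := SetLike.not_le_iff_exists.mp hcon
  have : Nontrivial ↥(A.map π) := by
    refine ⟨⟨⟨π a₀, Subgroup.mem_map_of_mem π ha₀⟩, 1, ?_⟩⟩
    intro h
    have h1 : π a₀ = 1 := congrArg Subtype.val h
    exact ha₀C ((hker a₀).mp h1).2
  have hcn : Nontrivial (Subgroup.center ↥(A.map π)) := hAb2.center_nontrivial
  obtain ⟨z, hz1⟩ := exists_ne (1 : Subgroup.center ↥(A.map π))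
  obtain ⟨a, ha, haz⟩ := (z : ↥(A.map π)).2
  have hacomm : ∀ a' ∈ A, π a' * π a = π a * π a' := by
    intro a' ha'
    have h1 := Subgroup.mem_center_iff.mp z.2 ⟨π a', Subgroup.mem_map_of_mem π ha'⟩
    have h2 := congrArg Subtype.val h1
    simp only [Subgroup.coe_mul] at h2
    rw [← haz] at h2
    exact h2
  have haK : a ∉ K := by
    intro h
    apply hz1
    apply Subtype.ext
    apply Subtype.ext
    rw [← haz]
    exact (hker a).mpr h
  -- weak closure of powers of `π a`
  have hW : ∀ (j : ℕ) (g : X ⧸ K), g * (π a) ^ j * g⁻¹ ∈ T.mapSurjective (QuotientGroup.mk'_surjective K) →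
      g * (π a) ^ j * g⁻¹ = (π a) ^ j := by
    intro j g hg
    obtain ⟨g, rfl⟩ := QuotientGroup.mk_surjective g
    have hgtop : g ∈ H ⊔ A := hHA ▸ Subgroup.mem_top g
    obtain ⟨h, hh, a', ha', rfl⟩ := Subgroup.mem_sup_of_normal_left.mp hgtop
    obtain ⟨t, ht, hte⟩ : ∃ t ∈ (T : Subgroup X), π t =
      (QuotientGroup.mk (h * a') : X ⧸ K) * (π a) ^ j * (QuotientGroup.mk (h * a') : X ⧸ K)⁻¹ := hg
    set b := a ^ j with hb
    have hbA : b ∈ A := A.pow_mem ha j
    have hte' : π t = π ((h * a') * b * (h * a')⁻¹) := by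
      rw [hte, map_mul, map_mul, map_inv, hb, map_pow]; rfl
    have hmemT : (h * a') * b * (h * a')⁻¹ ∈ (T : Subgroup X) := by
      have h1 : π (t⁻¹ * ((h * a') * b * (h * a')⁻¹)) = 1 := by
        rw [map_mul, map_inv, hte']; group
      have h2 := hAT (hKA ((hker _).mp h1))
      have := (T : Subgroup X).mul_mem ht h2
      simpa using this
    have hmemA := hcl b hbA _ hmemT
    set c := a' * b * a'⁻¹ with hc
    have hcA : c ∈ A := A.mul_mem (A.mul_mem ha' hbA) (A.inv_mem ha')
    have e1 : (h * a') * b * (h * a')⁻¹ = h * c * h⁻¹ := by rw [hc]; group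
    have h3 : h * c * h⁻¹ * c⁻¹ ∈ A ⊓ H := by
      refine ⟨A.mul_mem (e1 ▸ hmemA) (A.inv_mem hcA), ?_⟩
      have : h * c * h⁻¹ * c⁻¹ = h * (c * h⁻¹ * c⁻¹) := by group
      rw [this]
      exact H.mul_mem hh (hHn.conj_mem _ (H.inv_mem hh) c)
    rw [hdisj, Subgroup.mem_bot] at h3
    have h4 : h * c * h⁻¹ = c := mul_inv_eq_one.mp h3
    have h5 : (QuotientGroup.mk (h * a') : X ⧸ K) * (π a) ^ j * (QuotientGroup.mk (h * a') : X ⧸ K)⁻¹ = π c := by
      rw [← hte, hte', e1, h4]
    rw [h5, hc, map_mul, map_mul, map_inv, hb, map_pow]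
    have h6 : Commute (π a') (π a) := hacomm a' ha'
    have h7 : Commute (π a') ((π a) ^ j) := h6.pow_right j
    rw [h7.eq]; group
  have haT : π a ∈ T.mapSurjective (QuotientGroup.mk'_surjective K) :=
    Subgroup.mem_map_of_mem _ (hAT ha)
  have hz := Cfsg.Agent.Lib.Helper2.zstar_general _ haT hW
  -- the odd part meets `H` trivially
  set Ob := Cfsg.pPrimeCore 2 (X ⧸ K) with hOb
  have hObn : Ob.Normal := Cfsg.pPrimeCore_normal 2 _
  set D : Subgroup X := Ob.comap π ⊓ H with hD
  have hDn : D.Normal := inferInstance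
  have hDbot : D = ⊥ := by
    have hinj : Function.Injective (π.comp D.subtype) := by
      rw [injective_iff_map_eq_one]
      intro d hd
      have h1 : (d : X) ∈ K := (hker _).mp hd
      have h2 : (d : X) ∈ A ⊓ H := ⟨hKA h1, d.2.2⟩
      rw [hdisj, Subgroup.mem_bot] at h2
      exact Subtype.ext h2
    have hcard : Nat.card D ∣ Nat.card Ob := by
      have h1 : Nat.card D = Nat.card (D.map π) := by
        have := Nat.card_congr (MonoidHom.ofInjective hinj).toEquiv
        rw [this, MonoidHom.range_comp, Subgroup.range_subtype]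
      rw [h1]
      apply Subgroup.card_dvd_of_le
      rintro _ ⟨d, hd, rfl⟩
      exact hd.1
    have hcop : (Nat.card D).Coprime 2 :=
      Nat.Coprime.coprime_dvd_left hcard (Cfsg.Agent.Lib.Helper8.coprime_card_pPrimeCore 2)
    have hsub : (D.subgroupOf H).Normal := inferInstance
    have hc2 : (Nat.card (D.subgroupOf H)).Coprime 2 := by
      have : Nat.card (D.subgroupOf H) = Nat.card D :=
        Nat.card_congr (Subgroup.subgroupOfEquivOfLe (inf_le_right : D ≤ H)).toEquiv
      rw [this]; exact hcop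
    have h3 := Cfsg.Agent.Lib.Helper8.le_pPrimeCore_of_normal hsub hc2
    rw [hO, le_bot_iff, Subgroup.subgroupOf_eq_bot] at h3
    have : D ⊓ H = D := inf_eq_left.mpr inf_le_right
    rw [disjoint_iff, this] at h3
    exact h3
  apply haK
  refine Subgroup.mem_inf.mpr ⟨ha, ?_⟩
  rw [Subgroup.mem_centralizer_iff]
  intro h hh
  have h1 := hz (π h)
  have h2 : h * a * h⁻¹ * a⁻¹ ∈ D := by
    refine ⟨?_, ?_⟩
    · show π (h * a * h⁻¹ * a⁻¹) ∈ Ob
      rw [map_mul, map_mul, map_mul, map_inv, map_inv]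
      exact h1
    · have : h * a * h⁻¹ * a⁻¹ = h * (a * h⁻¹ * a⁻¹) := by group
      rw [this]
      exact H.mul_mem hh (hHn.conj_mem _ (H.inv_mem hh) a)
  rw [hDbot, Subgroup.mem_bot] at h2
  have h3 : h * a * h⁻¹ = a := mul_inv_eq_one.mp h2
  calc h * a = h * a * h⁻¹ * h := by group
    _ = a * h := by rw [h3]

end Cfsg.Agent.Lib.Helper16
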