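import Cfsg.Agent.Lib.Helper16.Comm

set_option autoImplicit false
set_option linter.unusedSectionVars false
set_option linter.style.haveILetI false
open Cfsg

namespace Cfsg.Agent.Lib.Helper16

section abstract
variable {K A : Type*} [Group K] [Finite K] [CommGroup A] (ρ : K →* MulAut A) (S : Subgroup K)

/-- the trace (relative norm) map from `S`-fixed points to `K`-fixed points. -/
noncomputable def atr (a : A) : A :=
  letI := Fintype.ofFinite (K ⧸ S)
  ∏ q : K ⧸ S, ρ q.out a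

theorem atr_mul (a b : A) : atr ρ S (a * b) = atr ρ S a * atr ρ S b := by
  simp only [atr, map_mul, Finset.prod_mul_distrib]

variable {ρ S}

theorem rho_out {a : A} (ha : ∀ s ∈ S, ρ s a = a) (k : K) :
    ρ (QuotientGroup.mk k : K ⧸ S).out a = ρ k a := by
  obtain ⟨h, hh⟩ := QuotientGroup.mk_out_eq_mul S k
  rw [hh, map_mul, MulAut.mul_apply, ha h h.2]

theorem atr_fixed {a : A} (ha : ∀ s ∈ S, ρ s a = a) (g : K) : ρ g (atr ρ S a) = atr ρ S a := by
  let _ := Fintype.ofFinite (K ⧸ S)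
  simp only [atr, map_prod]
  have h1 : ∀ q : K ⧸ S, ρ g (ρ q.out a) = ρ (g • q).out a := by
    intro q
    rw [← MulAut.mul_apply, ← map_mul, ← rho_out ha (g * q.out)]
    congr 3
    conv_rhs => rw [← QuotientGroup.out_eq' q]
    rfl
  simp only [h1]
  exact Equiv.prod_comp (MulAction.toPerm g : Equiv.Perm (K ⧸ S)) (fun q => ρ q.out a)

theorem atr_of_fixed {a : A} (ha : ∀ k : K, ρ k a = a) : atr ρ S a = a ^ S.index := by
  letI := Fintype.ofFinite (K ⧸ S)
  simp only [atr, ha, Finset.prod_const, Finset.card_univ]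
  rw [Subgroup.index_eq_card, Nat.card_eq_fintype_card]

theorem atr_div_mem {a : A} (W : Subgroup A) (h : ∀ k : K, ρ k a * a⁻¹ ∈ W) :
    atr ρ S a * (a ^ S.index)⁻¹ ∈ W := by
  letI := Fintype.ofFinite (K ⧸ S)
  have e : atr ρ S a * (a ^ S.index)⁻¹ = ∏ q : K ⧸ S, (ρ q.out a * a⁻¹) := by
    rw [Finset.prod_mul_distrib, Finset.prod_const, Finset.card_univ, Subgroup.index_eq_card,
      Nat.card_eq_fintype_card, inv_pow]
    rfl
  rw [e]
  exact Subgroup.prod_mem W fun q _ => h q.out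

theorem atr_equivariant {a : A} (ha : ∀ s ∈ S, ρ s a = a) (θ : MulAut A) (σ : MulAut K)
    (hσS : ∀ s, σ s ∈ S ↔ s ∈ S) (hθ : ∀ k b, θ (ρ k b) = ρ (σ k) (θ b)) :
    θ (atr ρ S a) = atr ρ S (θ a) := by
  letI := Fintype.ofFinite (K ⧸ S)
  have ha' : ∀ s ∈ S, ρ s (θ a) = θ a := by
    intro s hs
    have h1 : σ (σ⁻¹ s) = s := by simp
    have h2 : σ⁻¹ s ∈ S := by rw [← hσS, h1]; exact hs
    rw [← h1, ← hθ, ha _ h2]
  simp only [atr, map_prod, hθ]
  have h1 : ∀ q : K ⧸ S, ρ (σ q.out) (θ a) = ρ (QuotientGroup.mk (σ q.out) : K ⧸ S).out (θ a) :=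
    fun q => (rho_out ha' _).symm
  simp only [h1]
  have hinj : Function.Injective (fun q : K ⧸ S => (QuotientGroup.mk (σ q.out) : K ⧸ S)) := by
    intro q q' h
    simp only at h
    rw [QuotientGroup.eq, ← map_inv, ← map_mul, hσS, ← QuotientGroup.eq, QuotientGroup.out_eq',
      QuotientGroup.out_eq'] at h
    exact h
  have hbij : Function.Bijective (fun q : K ⧸ S => (QuotientGroup.mk (σ q.out) : K ⧸ S)) :=
    Finite.injective_iff_bijective.mp hinj
  exact hbij.prod_comp (fun q : K ⧸ S => ρ q.out (θ a))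

end abstract

section concrete
variable {G : Type*} [Group G] [Finite G] {V K S : Subgroup G}

open scoped IsMulCommutative

theorem exists_trace (hV : ∀ a ∈ V, ∀ b ∈ V, Commute a b)
    (hKV : K ≤ Subgroup.normalizer (V : Set G)) :
    ∃ f : G → G,
      (∀ a ∈ V ⊓ Subgroup.centralizer (S : Set G), f a ∈ V ⊓ Subgroup.centralizer (K : Set G)) ∧
      (∀ a ∈ V, ∀ b ∈ V, f (a * b) = f a * f b) ∧
      (∀ a ∈ V ⊓ Subgroup.centralizer (K : Set G), f a = a ^ S.relIndex K) ∧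
      (∀ a ∈ V, ∀ W : Subgroup G, (∀ k ∈ K, k * a * k⁻¹ * a⁻¹ ∈ W) →
        f a * (a ^ S.relIndex K)⁻¹ ∈ W) ∧
      (∀ t ∈ Subgroup.normalizer (V : Set G) ⊓ Subgroup.normalizer (K : Set G) ⊓
          Subgroup.normalizer (S : Set G),
        ∀ a ∈ V ⊓ Subgroup.centralizer (S : Set G), f (t * a * t⁻¹) = t * f a * t⁻¹) := by
  classical
  have hVc : IsMulCommutative ↥V := ⟨⟨fun a b => Subtype.ext (hV a a.2 b b.2)⟩⟩
  let ρ : ↥K →* MulAut ↥V := V.normalizerMonoidHom.comp (Subgroup.inclusion hKV)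
  have hρ : ∀ (k : ↥K) (v : ↥V), ((ρ k v : ↥V) : G) = k * v * (k : G)⁻¹ := fun _ _ => rfl
  have hfix : ∀ a : ↥V, (a : G) ∈ Subgroup.centralizer (S : Set G) →
      ∀ s ∈ S.subgroupOf K, ρ s a = a := by
    intro a ha s hs
    apply Subtype.ext
    rw [hρ, (mem_centralizer_iff_commute.mp ha s hs).symm.eq, mul_inv_cancel_right]
  refine ⟨fun a => if h : a ∈ V then ((atr ρ (S.subgroupOf K) ⟨a, h⟩ : ↥V) : G) else 1, ?_, ?_, ?_, ?_, ?_⟩
  · rintro a ⟨haV, haS⟩
    simp only [dif_pos (show a ∈ V from haV)]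
    refine Subgroup.mem_inf.mpr ⟨Subtype.property _, ?_⟩
    rw [mem_centralizer_iff_commute]
    intro k hk
    have h1 := atr_fixed (hfix ⟨a, haV⟩ haS) ⟨k, hk⟩
    have h2 := congrArg Subtype.val h1
    rw [hρ] at h2
    have h3 := congrArg (fun w => w * k) h2
    simp only [inv_mul_cancel_right] at h3
    exact h3.symm
  · intro a ha b hb
    simp only [dif_pos ha, dif_pos hb, dif_pos (V.mul_mem ha hb)]
    have := atr_mul ρ (S.subgroupOf K) ⟨a, ha⟩ ⟨b, hb⟩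
    exact congrArg Subtype.val this
  · rintro a ⟨haV, haK⟩
    simp only [dif_pos (show a ∈ V from haV)]
    have h1 : ∀ k : ↥K, ρ k ⟨a, haV⟩ = ⟨a, haV⟩ := by
      intro k
      apply Subtype.ext
      rw [hρ]
      show (k : G) * a * (k : G)⁻¹ = a
      rw [(mem_centralizer_iff_commute.mp haK k k.2).symm.eq, mul_inv_cancel_right]
    have := atr_of_fixed (S := S.subgroupOf K) h1
    exact congrArg Subtype.val this
  · intro a ha W hW
    simp only [dif_pos ha]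
    have := atr_div_mem (ρ := ρ) (S := S.subgroupOf K) (a := ⟨a, ha⟩) (W.subgroupOf V) (by
      intro k
      rw [Subgroup.mem_subgroupOf]
      exact hW k k.2)
    exact this
  · rintro t ⟨⟨htV, htK⟩, htS⟩ a ⟨haV, haS⟩
    have htaV : t * a * t⁻¹ ∈ V := conj_mem_of_le_normalizer le_rfl htV haV
    simp only [dif_pos (show a ∈ V from haV), dif_pos htaV]
    have := atr_equivariant (hfix ⟨a, haV⟩ haS) (V.normalizerMonoidHom ⟨t, htV⟩)
      (K.normalizerMonoidHom ⟨t, htK⟩) (by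
        intro s
        rw [Subgroup.mem_subgroupOf, Subgroup.mem_subgroupOf]
        exact (Subgroup.mem_normalizer_iff.mp htS s).symm) (by
        intro k b
        apply Subtype.ext
        show t * ((k : G) * b * (k : G)⁻¹) * t⁻¹ = (t * k * t⁻¹) * (t * b * t⁻¹) * (t * k * t⁻¹)⁻¹
        group)
    exact (congrArg Subtype.val this).symm

end concrete

section decomp
variable {G : Type*} [Group G] {p : ℕ} [hp : Fact p.Prime]

theorem exists_pow_pow_eq {n : ℕ} (hn : ¬ p ∣ n) : ∃ m : ℕ, ∀ z : G, z ^ p = 1 → (z ^ n) ^ m = z := by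
  have hc : Nat.Coprime n p := ((Nat.Prime.coprime_iff_not_dvd hp.out).mpr hn).symm
  obtain ⟨m, -, hm⟩ := Nat.exists_mul_mod_eq_one_of_coprime hc hp.out.one_lt
  refine ⟨m, fun z hz => ?_⟩
  rw [← pow_mul, pow_eq_pow_mod _ hz, hm, pow_one]

variable [Finite G] {V K S : Subgroup G}

/-- `C_V(S) ≤ C_V(K) [V, K]` when `|K : S|` is prime to `p`. -/
theorem exists_decomp (hV : ∀ a ∈ V, ∀ b ∈ V, Commute a b)
    (hKV : K ≤ Subgroup.normalizer (V : Set G)) (hn : ¬ p ∣ S.relIndex K) {z : G}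
    (hz : z ∈ V ⊓ Subgroup.centralizer (S : Set G)) (hzp : z ^ p = 1) (W : Subgroup G)
    (hW : ∀ k ∈ K, k * z * k⁻¹ * z⁻¹ ∈ W) :
    ∃ c ∈ V ⊓ Subgroup.centralizer (K : Set G), ∃ w ∈ W ⊓ V, z = c * w := by
  obtain ⟨f, h1, _, _, h4, _⟩ := exists_trace (S := S) hV hKV
  obtain ⟨m, hm⟩ := exists_pow_pow_eq (G := G) hn
  have hc := h1 z hz
  have hw := h4 z hz.1 W hW
  have hwV : f z * (z ^ S.relIndex K)⁻¹ ∈ V := V.mul_mem hc.1 (V.inv_mem (V.pow_mem hz.1 _))
  refine ⟨(f z) ^ m, Subgroup.pow_mem _ hc m, ((f z * (z ^ S.relIndex K)⁻¹)⁻¹) ^ m,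
    Subgroup.pow_mem _ (Subgroup.inv_mem _ (Subgroup.mem_inf.mpr ⟨hw, hwV⟩)) m, ?_⟩
  have hcomm : Commute (f z) ((f z * (z ^ S.relIndex K)⁻¹)⁻¹) := hV _ hc.1 _ (V.inv_mem hwV)
  rw [← hcomm.mul_pow]
  have e : f z * (f z * (z ^ S.relIndex K)⁻¹)⁻¹ = z ^ S.relIndex K := by
    rw [mul_inv_rev, inv_inv, ← mul_assoc, (hV _ hc.1 _ (V.pow_mem hz.1 _)).eq, mul_inv_cancel_right]
  rw [e, hm z hzp]

end decomp

end Cfsg.Agent.Lib.Helper16
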