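import Cfsg.Agent.Lib.Helper16.PIrr
import Cfsg.Agent.Lib.Helper16.SPE
import Cfsg.Agent.Lib.Helper16.WC

set_option autoImplicit false
set_option linter.unusedSectionVars false
open Cfsg
open scoped commutatorElement

namespace Cfsg.Agent.Lib.Helper16

variable {G : Type*} [Group G]

/-- `G` is `Y`-minimal with `L₀` the unique maximal subgroup containing `Y`. -/
structure YMin (Y L₀ : Subgroup G) : Prop where
  ncl : Subgroup.normalClosure (Y : Set G) = ⊤
  coatom : IsCoatom L₀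
  le : Y ≤ L₀
  le_of_ne_top : ∀ X : Subgroup G, Y ≤ X → X ≠ ⊤ → X ≤ L₀

theorem isCoatom_conj {M : Subgroup G} (h : IsCoatom M) (g : G) :
    IsCoatom (M.map (MulAut.conj g).toMonoidHom) :=
  ((MulAut.conj g).mapSubgroup.isCoatom_iff M).mpr h

section
variable [Finite G] {Y L₀ : Subgroup G}

theorem yMin_of (hL₀ : IsCoatom L₀) (hY : Y ≤ L₀) (hmin : IsMinimalOver Y) : YMin Y L₀ := by
  obtain ⟨hcl, M, ⟨hM, hTM⟩, huniq⟩ := hmin
  refine ⟨hcl, hL₀, hY, fun X hYX hX => ?_⟩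
  obtain ⟨M', hM', hXM'⟩ := (eq_top_or_exists_le_coatom X).resolve_left hX
  rw [huniq L₀ ⟨hL₀, hY⟩, ← huniq M' ⟨hM', hYX.trans hXM'⟩]
  exact hXM'

theorem YMin.isMinimalOver (h : YMin Y L₀) : IsMinimalOver Y :=
  ⟨h.ncl, L₀, ⟨h.coatom, h.le⟩, fun M hM => by
    have h1 := h.le_of_ne_top M hM.2 hM.1.1
    exact ((hM.1.le_iff_eq h.coatom.1).mp h1).symm⟩

theorem IsMinimalOver.exists_yMin (hmin : IsMinimalOver Y) : ∃ L₀, YMin Y L₀ := by
  obtain ⟨M, ⟨hM, hTM⟩, _⟩ := hmin.2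
  exact ⟨M, yMin_of hM hTM hmin⟩

theorem YMin.eq_of_coatom (h : YMin Y L₀) {M : Subgroup G} (hM : IsCoatom M) (hYM : Y ≤ M) : M = L₀ :=
  ((hM.le_iff_eq h.coatom.1).mp (h.le_of_ne_top M hYM hM.1)).symm

theorem YMin.not_normal (h : YMin Y L₀) : ¬ L₀.Normal := fun _ =>
  h.coatom.1 (top_le_iff.mp (h.ncl.ge.trans (Subgroup.normalClosure_le_normal h.le)))

theorem YMin.normalizer_eq (h : YMin Y L₀) : Subgroup.normalizer (L₀ : Set G) = L₀ := by
  rcases h.coatom.le_iff.mp (Subgroup.le_normalizer (H := L₀)) with h1 | h1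
  · exact absurd (Subgroup.normalizer_eq_top_iff.mp h1) h.not_normal
  · exact h1

theorem YMin.mem_of_le_conj (h : YMin Y L₀) {g : G} (hg : Y ≤ L₀.map (MulAut.conj g).toMonoidHom) :
    g ∈ L₀ := by
  have h1 := h.eq_of_coatom (isCoatom_conj h.coatom g) hg
  have h2 : g ∈ Subgroup.normalizer (L₀ : Set G) := mem_normalizer_iff_conj_eq.mpr h1
  rwa [h.normalizer_eq] at h2

theorem YMin.mem_of_conj_le (h : YMin Y L₀) {g : G} (hg : Y.map (MulAut.conj g).toMonoidHom ≤ L₀) :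
    g ∈ L₀ := by
  have := h.mem_of_le_conj (conj_le_iff.mp hg)
  simpa using this

theorem YMin.sup_conj_eq_top (h : YMin Y L₀) {g : G} (hg : g ∉ L₀) :
    Y ⊔ Y.map (MulAut.conj g).toMonoidHom = ⊤ := by
  by_contra hne
  exact hg (h.mem_of_conj_le (le_sup_right.trans (h.le_of_ne_top _ le_sup_left hne)))

theorem YMin.inf_conj_eq (h : YMin Y L₀) (hc : ∀ a ∈ Y, ∀ b ∈ Y, a * b = b * a) {g : G} (hg : g ∉ L₀) :
    Y ⊓ Y.map (MulAut.conj g).toMonoidHom = Y ⊓ Subgroup.center G := by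
  apply le_antisymm
  · refine le_inf inf_le_left ?_
    intro z hz
    have h1 : Y ⊔ Y.map (MulAut.conj g).toMonoidHom ≤ Subgroup.centralizer {z} := by
      refine sup_le ?_ ?_
      · intro y hy
        rw [Subgroup.mem_centralizer_singleton_iff]
        exact hc _ hy _ hz.1
      · rintro _ ⟨y, hy, rfl⟩
        obtain ⟨z', hz', e⟩ := hz.2
        rw [Subgroup.mem_centralizer_singleton_iff, ← e, ← map_mul, ← map_mul, hc _ hy _ hz']
    rw [h.sup_conj_eq_top hg] at h1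
    rw [Subgroup.mem_center_iff]
    intro x
    exact Subgroup.mem_centralizer_singleton_iff.mp (h1 (Subgroup.mem_top x))
  · refine le_inf inf_le_left ?_
    intro z hz
    refine ⟨z, hz.1, ?_⟩
    have := Subgroup.mem_center_iff.mp hz.2 g
    simp only [MulEquiv.coe_toMonoidHom, MulAut.conj_apply]
    rw [this]; simp

variable {p : ℕ} [hp : Fact p.Prime] {T : Subgroup G}

theorem YMin.normalizer_le (h : YMin Y L₀) (hYT : Y ≤ T) (hT : T ≤ L₀) :
    Subgroup.normalizer (T : Set G) ≤ L₀ := by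
  intro g hg
  apply h.mem_of_le_conj
  calc Y ≤ T := hYT
    _ = T.map (MulAut.conj g).toMonoidHom := (conj_eq_of_mem_normalizer hg).symm
    _ ≤ _ := conj_mono hT g

theorem YMin.sylIn_top (h : YMin Y L₀) (hYT : Y ≤ T) (hT : SylIn p T L₀) : SylIn p T ⊤ := by
  obtain ⟨P, hP, hTP⟩ := exists_sylIn_ge (L := ⊤) hT.isPGroup le_top
  rcases hTP.eq_or_lt with h1 | h1
  · rwa [h1]
  · exfalso
    obtain ⟨x, hxP, hxT, hxn⟩ := exists_mem_normalizer_of_lt hP.isPGroup h1
    have h2 : T ⊔ Subgroup.zpowers x ≤ P := sup_le hTP (Subgroup.zpowers_le.mpr hxP)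
    have h3 : T = T ⊔ Subgroup.zpowers x := hT.eq_of_le (hP.isPGroup.to_le h2)
      (sup_le hT.le (Subgroup.zpowers_le.mpr (h.normalizer_le hYT hT.le hxn))) le_sup_left
    apply hxT
    rw [h3]
    exact Subgroup.mem_sup_right (Subgroup.mem_zpowers x)

theorem YMin.pCore_le (h : YMin Y L₀) (hYT : Y ≤ T) (hT : SylIn p T L₀) : pCore p G ≤ T := by
  rw [← pCoreOf_top]
  exact pCoreOf_le_sylIn (h.sylIn_top hYT hT)

theorem YMin.map (h : YMin Y L₀) {G' : Type*} [Group G'] (f : G →* G') (hf : Function.Surjective f)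
    (hker : f.ker ≤ L₀) : YMin (Y.map f) (L₀.map f) := by
  have hcm : (L₀.map f).comap f = L₀ := by rw [Subgroup.comap_map_eq, sup_eq_left.mpr hker]
  have hne : ∀ X : Subgroup G', X ≠ ⊤ → X.comap f ≠ ⊤ := by
    intro X hX hc
    apply hX
    rw [← Subgroup.map_comap_eq_self_of_surjective hf X, hc, Subgroup.map_top_of_surjective f hf]
  have hle : ∀ X : Subgroup G', Y.map f ≤ X → X ≠ ⊤ → X ≤ L₀.map f := by
    intro X hYX hX
    have h1 := h.le_of_ne_top (X.comap f) (Subgroup.map_le_iff_le_comap.mp hYX) (hne X hX)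
    rw [← Subgroup.map_comap_eq_self_of_surjective hf X]
    exact Subgroup.map_mono h1
  refine ⟨?_, ⟨?_, ?_⟩, Subgroup.map_mono h.le, hle⟩
  · rw [Subgroup.coe_map, ← Subgroup.map_normalClosure _ f hf, h.ncl, Subgroup.map_top_of_surjective f hf]
  · intro hc
    apply h.coatom.1
    rw [← hcm, hc, Subgroup.comap_top]
  · intro X hX
    by_contra hne'
    exact absurd (hle X ((Subgroup.map_mono h.le).trans hX.le) hne') (not_le_of_gt hX)

end

end Cfsg.Agent.Lib.Helper16
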