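import Cfsg.Agent.Lib.Helper16.YMin

set_option autoImplicit false
set_option linter.unusedSectionVars false
open Cfsg
open scoped commutatorElement

namespace Cfsg.Agent.Lib.Helper16

variable {G : Type*} [Group G]

theorem isNilpotent_of_injective {A B : Type*} [Group A] [Group B] (f : A →* B)
    (hf : Function.Injective f) (hB : Group.IsNilpotent B) : Group.IsNilpotent A :=
  Group.nilpotent_of_mulEquiv (MonoidHom.ofInjective hf).symm

theorem isNilpotent_of_le {A B : Subgroup G} (h : A ≤ B) (hB : Group.IsNilpotent B) :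
    Group.IsNilpotent A :=
  isNilpotent_of_injective (Subgroup.inclusion h) (Subgroup.inclusion_injective h) hB

section
variable [Finite G]

theorem index_eq_relIndex_of_sup_eq_top {D M : Subgroup G} [D.Normal] (h : M ⊔ D = ⊤) :
    M.index = M.relIndex D := by
  have h1 : D.index = D.relIndex M := by
    rw [← Subgroup.relIndex_top_right, ← h, Subgroup.relIndex_sup_right]
  have h2 : Nat.card (D ⊓ M : Subgroup G) * M.relIndex D = Nat.card D := by
    rw [← Subgroup.relIndex_bot_left, ← Subgroup.inf_relIndex_left D M,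
      Subgroup.relIndex_mul_relIndex _ _ _ bot_le inf_le_left, Subgroup.relIndex_bot_left]
  have h3 : Nat.card (D ⊓ M : Subgroup G) * D.relIndex M = Nat.card M := by
    rw [← Subgroup.relIndex_bot_left, ← Subgroup.inf_relIndex_right D M,
      Subgroup.relIndex_mul_relIndex _ _ _ bot_le inf_le_right, Subgroup.relIndex_bot_left]
  have h4 := Subgroup.card_mul_index D
  have h5 := Subgroup.card_mul_index M
  rw [← h5, ← h2, ← h3, h1] at h4
  have hpos : 0 < Nat.card (D ⊓ M : Subgroup G) * D.relIndex M := by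
    rw [h3]; exact Nat.card_pos
  have h6 : Nat.card (D ⊓ M : Subgroup G) * D.relIndex M * M.relIndex D =
      Nat.card (D ⊓ M : Subgroup G) * D.relIndex M * M.index := by
    rw [← h4]; ring
  exact (Nat.eq_of_mul_eq_mul_left hpos h6).symm

variable {Y L₀ : Subgroup G} {p : ℕ} [hp : Fact p.Prime] {T N : Subgroup G}

/-- a normal subgroup inside `L₀` meets `T` in a normal subgroup. -/
theorem YMin.inf_normal (h : YMin Y L₀) (hYT : Y ≤ T) (hT : SylIn p T L₀) (hN : N.Normal) (hNL : N ≤ L₀) :
    (T ⊓ N).Normal := by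
  have hn : (⊤ : Subgroup G) ≤ Subgroup.normalizer (N : Set G) := by rw [Subgroup.normalizer_eq_top]
  have hTN : SylIn p (T ⊓ N) N := (h.sylIn_top hYT hT).inf_normal le_top hn
  rw [← Subgroup.normalizer_eq_top_iff]
  by_contra hne
  have h1 := h.le_of_ne_top _ (hYT.trans (le_normalizer_inf Subgroup.le_normalizer (le_top.trans hn))) hne
  apply h.coatom.1
  rw [eq_top_iff]
  intro g hg
  obtain ⟨n, hnN, m, hm, rfl⟩ := hTN.frattini hn hg
  exact L₀.mul_mem (hNL hnN) (h1 hm)

theorem YMin.pCl (h : YMin Y L₀) (hYT : Y ≤ T) (hT : SylIn p T L₀) (hN : N.Normal) (hNL : N ≤ L₀) :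
    PCl p N := by
  have hn : (⊤ : Subgroup G) ≤ Subgroup.normalizer (N : Set G) := by rw [Subgroup.normalizer_eq_top]
  have hTN : SylIn p (T ⊓ N) N := (h.sylIn_top hYT hT).inf_normal le_top hn
  have := h.inf_normal hYT hT hN hNL
  exact pCl_of_sylIn_normal hTN (by rw [Subgroup.normalizer_eq_top]; exact le_top)

theorem PCl.sylIn_pCoreOf (h : PCl p N) : SylIn p (pCoreOf p N) N := by
  obtain ⟨T, hT⟩ := exists_sylIn (p := p) N
  rwa [← h.sylIn_eq hT]

theorem PCl.coprime_card_quotient (h : PCl p N) : (Nat.card (↥N ⧸ pCore p ↥N)).Coprime p := by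
  have h1 := h.sylIn_pCoreOf.2.2
  have h2 : (pCoreOf p N).relIndex N = Nat.card (↥N ⧸ pCore p ↥N) := by
    rw [Subgroup.relIndex, ← Subgroup.index_eq_card]
    congr 1
    exact Subgroup.comap_map_eq_self_of_injective N.subtype_injective _
  rw [h2] at h1
  exact ((Nat.Prime.coprime_iff_not_dvd hp.out).mpr h1).symm

theorem YMin.normalCore_le_coatom (h : YMin Y L₀) (hYT : Y ≤ T) (hT : SylIn p T L₀) {M : Subgroup G}
    (hM : IsCoatom M) (hO : pCore p G ≤ M) : L₀.normalCore ≤ M := by
  by_contra hDM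
  have hDn : L₀.normalCore.Normal := inferInstance
  have hsup : M ⊔ L₀.normalCore = ⊤ :=
    hM.2 _ (lt_of_le_of_ne le_sup_left (fun e => hDM (e ▸ le_sup_right)))
  have hidx := index_eq_relIndex_of_sup_eq_top hsup
  have hT' := h.sylIn_top hYT hT
  have hTD : SylIn p (T ⊓ L₀.normalCore) L₀.normalCore :=
    hT'.inf_normal le_top (by rw [Subgroup.normalizer_eq_top])
  have hTDn : T ⊓ L₀.normalCore ≤ pCore p G :=
    le_pCore (h.inf_normal hYT hT hDn (Subgroup.normalCore_le L₀)) hTD.isPGroup
  have h1 : M.relIndex L₀.normalCore ∣ (T ⊓ L₀.normalCore).relIndex L₀.normalCore :=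
    Subgroup.relIndex_dvd_of_le_left _ (hTDn.trans hO)
  have h2 : ¬ p ∣ M.index := by
    rw [hidx]
    exact fun hd => hTD.2.2 (hd.trans h1)
  obtain ⟨S, hS⟩ := exists_sylIn (p := p) M
  have hS' : SylIn p S ⊤ := by
    refine ⟨le_top, hS.isPGroup, ?_⟩
    rw [Subgroup.relIndex_top_right, ← Subgroup.relIndex_mul_index hS.le]
    intro hd
    rcases (Nat.Prime.dvd_mul hp.out).mp hd with hd | hd
    · exact hS.2.2 hd
    · exact h2 hd
  obtain ⟨g, _, hg⟩ := hS'.exists_conj hT'
  have h3 : M.map (MulAut.conj g).toMonoidHom = L₀ :=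
    h.eq_of_coatom (isCoatom_conj hM g) (hYT.trans (hg.le.trans (conj_mono hS.le g)))
  apply hDM
  have h4 : L₀.normalCore ≤ M.map (MulAut.conj g).toMonoidHom := by
    rw [h3]; exact Subgroup.normalCore_le L₀
  have h5 := conj_mono h4 g⁻¹
  rw [conj_inv_conj, conj_eq_of_mem_normalizer (by rw [Subgroup.normalizer_eq_top]; exact Subgroup.mem_top _)] at h5
  exact h5

theorem isCoatom_comap {G' : Type*} [Group G'] (f : G →* G') (hf : Function.Surjective f)
    {M' : Subgroup G'} (h : IsCoatom M') : IsCoatom (M'.comap f) := by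
  constructor
  · intro hc
    apply h.1
    rw [← Subgroup.map_comap_eq_self_of_surjective hf M', hc, Subgroup.map_top_of_surjective f hf]
  · intro X hX
    have hker : f.ker ≤ X := (Subgroup.ker_le_comap f M').trans hX.le
    have h1 : M' ≤ X.map f := by
      rw [← Subgroup.map_comap_eq_self_of_surjective hf M']
      exact Subgroup.map_mono hX.le
    have h2 : M' ≠ X.map f := by
      intro e
      apply not_le_of_gt hX
      rw [e]
      exact Subgroup.le_comap_map f X
    have h3 := h.2 _ (lt_of_le_of_ne h1 h2)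
    rw [← sup_eq_left.mpr hker, ← Subgroup.comap_map_eq, h3, Subgroup.comap_top]

theorem YMin.pCore_le_normalCore (h : YMin Y L₀) (hYT : Y ≤ T) (hT : SylIn p T L₀) :
    pCore p G ≤ L₀.normalCore :=
  (Subgroup.normal_le_normalCore).mpr ((h.pCore_le hYT hT).trans hT.le)

theorem YMin.map_normalCore_eq_frattini (h : YMin Y L₀) (hYT : Y ≤ T) (hT : SylIn p T L₀) :
    L₀.normalCore.map (QuotientGroup.mk' (pCore p G)) = frattini (G ⧸ pCore p G) := by
  have hsurj := QuotientGroup.mk'_surjective (pCore p G)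
  have hOL : pCore p G ≤ L₀ := (h.pCore_le hYT hT).trans hT.le
  apply le_antisymm
  · unfold frattini Order.radical
    refine le_iInf₂ fun M' hM' => ?_
    rw [Subgroup.map_le_iff_le_comap]
    apply h.normalCore_le_coatom hYT hT (isCoatom_comap _ hsurj hM')
    have := Subgroup.ker_le_comap (QuotientGroup.mk' (pCore p G)) M'
    rwa [QuotientGroup.ker_mk'] at this
  · intro y hy
    obtain ⟨x, rfl⟩ := hsurj y
    refine ⟨x, ?_, rfl⟩
    intro g
    have h1 : IsCoatom (L₀.map (QuotientGroup.mk' (pCore p G))) :=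
      (h.map _ hsurj (by rwa [QuotientGroup.ker_mk'])).coatom
    have hFn : (frattini (G ⧸ pCore p G)).Normal := inferInstance
    have h2 := frattini_le_coatom h1 (hFn.conj_mem _ hy (QuotientGroup.mk' (pCore p G) g))
    rw [← map_inv, ← map_mul, ← map_mul] at h2
    have h3 : g * x * g⁻¹ ∈ (L₀.map (QuotientGroup.mk' (pCore p G))).comap (QuotientGroup.mk' (pCore p G)) := h2
    rwa [Subgroup.comap_map_eq, QuotientGroup.ker_mk', sup_eq_left.mpr hOL] at h3

theorem pCore_subgroupOf_eq_of_normal (hN : N.Normal) : (pCore p G).subgroupOf N = pCore p ↥N := by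
  apply le_antisymm
  · apply le_pCore inferInstance
    exact (pCore_isPGroup (p := p) (G := G)).comap_of_injective N.subtype N.subtype_injective
  · have h1 : pCoreOf p N ≤ pCoreOf p (⊤ : Subgroup G) :=
      pCoreOf_le_pCoreOf_of_normal le_top (by rw [Subgroup.normalizer_eq_top])
    rw [pCoreOf_top] at h1
    exact Subgroup.map_le_iff_le_comap.mp h1

theorem YMin.isNilpotent_quotient (h : YMin Y L₀) (hYT : Y ≤ T) (hT : SylIn p T L₀) (hN : N.Normal)
    (hNL : N ≤ L₀) : Group.IsNilpotent (↥N ⧸ pCore p ↥N) := by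
  let φ : ↥N →* G ⧸ pCore p G := (QuotientGroup.mk' (pCore p G)).comp N.subtype
  have hker : ∀ x : ↥N, φ x = 1 ↔ x ∈ pCore p ↥N := by
    intro x
    rw [← pCore_subgroupOf_eq_of_normal hN]
    exact QuotientGroup.eq_one_iff _
  have hrange : ∀ x : ↥N, φ x ∈ frattini (G ⧸ pCore p G) := by
    intro x
    rw [← h.map_normalCore_eq_frattini hYT hT]
    exact ⟨x, (Subgroup.normal_le_normalCore).mpr hNL x.2, rfl⟩
  let ψ : ↥N ⧸ pCore p ↥N →* frattini (G ⧸ pCore p G) :=
    QuotientGroup.lift (pCore p ↥N) (φ.codRestrict _ hrange) (by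
      intro x hx
      exact Subtype.ext ((hker x).mpr hx))
  apply isNilpotent_of_injective ψ _ frattini_nilpotent
  rw [injective_iff_map_eq_one]
  intro y hy
  obtain ⟨x, rfl⟩ := QuotientGroup.mk'_surjective _ y
  have h1 : φ x = 1 := congrArg Subtype.val hy
  exact (QuotientGroup.eq_one_iff _).mpr ((hker x).mp h1)

end

end Cfsg.Agent.Lib.Helper16
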