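import Cfsg.Agent.Lib.Helper16.PRed2
import Cfsg.Agent.Lib.Helper16.Trace

set_option autoImplicit false
set_option linter.unusedSectionVars false
open Cfsg
open scoped commutatorElement

namespace Cfsg.Agent.Lib.Helper16

variable {G : Type*} [Group G]

theorem omegaCenter_conj (p : ℕ) (S : Subgroup G) (g : G) :
    (omegaOne p (S ⊓ Subgroup.centralizer (S : Set G))).map (MulAut.conj g).toMonoidHom =
      omegaOne p (S.map (MulAut.conj g).toMonoidHom ⊓
        Subgroup.centralizer ((S.map (MulAut.conj g).toMonoidHom : Subgroup G) : Set G)) := by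
  rw [← omegaOne_conj, Subgroup.map_inf _ _ _ (MulAut.conj g).injective, centralizer_conj]

theorem normalizer_le_normalizer_omegaCenter (p : ℕ) (S : Subgroup G) :
    Subgroup.normalizer (S : Set G) ≤
      Subgroup.normalizer (omegaOne p (S ⊓ Subgroup.centralizer (S : Set G)) : Set G) :=
  (le_normalizer_inf le_rfl (normalizer_le_normalizer_centralizer S)).trans
    (normalizer_le_normalizer_omegaOne p _)

theorem mem_omegaCenter_iff {p : ℕ} {S : Subgroup G} {z : G} :
    z ∈ omegaOne p (S ⊓ Subgroup.centralizer (S : Set G)) ↔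
      z ∈ S ∧ z ∈ Subgroup.centralizer (S : Set G) ∧ z ^ p = 1 := by
  constructor
  · intro h
    exact ⟨(omegaOne_le _ _ h).1, (omegaOne_le _ _ h).2,
      ((elemAb_iff _).mp (elemAb_omegaOne_center p S)).2 z h⟩
  · rintro ⟨h1, h2, h3⟩
    exact mem_omegaOne ⟨h1, h2⟩ h3

section
variable [Finite G] {p : ℕ} [hp : Fact p.Prime] {L S W : Subgroup G}

theorem le_sylowCenterClosure (h : SylIn p S L) :
    omegaOne p (S ⊓ Subgroup.centralizer (S : Set G)) ≤ sylowCenterClosure p L := by
  obtain ⟨P, hP⟩ := h.exists_sylow_map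
  unfold sylowCenterClosure
  have := le_iSup (fun S : Sylow p ↥L => omegaOne p (((S : Subgroup ↥L).map L.subtype) ⊓
    Subgroup.centralizer (((S : Subgroup ↥L).map L.subtype : Subgroup G) : Set G))) P
  simp only [hP] at this
  exact this

theorem sylowCenterClosure_le_iff : sylowCenterClosure p L ≤ W ↔
    ∀ S : Subgroup G, SylIn p S L → omegaOne p (S ⊓ Subgroup.centralizer (S : Set G)) ≤ W := by
  constructor
  · exact fun h S hS => (le_sylowCenterClosure hS).trans h
  · intro h
    unfold sylowCenterClosure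
    exact iSup_le fun S => h _ (sylIn_of_sylow S)

theorem sylowCenterClosure_le (L : Subgroup G) : sylowCenterClosure p L ≤ L :=
  sylowCenterClosure_le_iff.mpr fun _ hS => (omegaOne_le _ _).trans (inf_le_left.trans hS.1)

theorem le_normalizer_sylowCenterClosure (L : Subgroup G) :
    L ≤ Subgroup.normalizer (sylowCenterClosure p L : Set G) := by
  intro l hl
  apply mem_normalizer_of_conj_le
  rw [Subgroup.map_le_iff_le_comap, sylowCenterClosure_le_iff]
  intro S hS
  rw [← Subgroup.map_le_iff_le_comap, omegaCenter_conj]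
  exact le_sylowCenterClosure (hS.conj_of_mem (Subgroup.le_normalizer hl))

theorem sylowCenterClosure_le_largest (hL : CharP p L) :
    sylowCenterClosure p L ≤ largestPReducedOf p L :=
  sylowCenterClosure_le_iff.mpr fun S hS => (le_ncl _ L).trans
    (((pRed_omegaOne_center S).ncl hL hS le_rfl hS.1).le_largestPReducedOf)

/-- `l z l⁻¹ z⁻¹ ∈ [A, O^p(L)]` for `z ∈ A ∩ Z(S)`, `S` a Sylow subgroup of `L`. -/
theorem comm_mem_commutator_pRes {A : Subgroup G} (hS : SylIn p S L) {z l : G} (hzA : z ∈ A)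
    (hz : z ∈ Subgroup.centralizer (S : Set G)) (hl : l ∈ L) :
    l * z * l⁻¹ * z⁻¹ ∈ ⁅A, pRes p L⁆ := by
  have hk : l ∈ pRes p L ⊔ S := by rw [pRes_sup_sylIn hS]; exact hl
  obtain ⟨r, hr, t, ht, rfl⟩ := exists_mul_of_mem_sup (hS.1.trans (le_normalizer_pRes L)) hk
  have e1 : t * z * t⁻¹ = z := by
    rw [(mem_centralizer_iff_commute.mp hz t ht).symm.eq, mul_inv_cancel_right]
  have e2 : r * t * z * (r * t)⁻¹ * z⁻¹ = r * (t * z * t⁻¹) * r⁻¹ * z⁻¹ := by group
  rw [e2, e1]
  exact comm_mem_commutator hzA hr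

end

theorem isPGroup_zpowers_of_pow_eq_one' {p : ℕ} {z : G} (h : z ^ p = 1) :
    IsPGroup p (Subgroup.zpowers z) := by
  rintro ⟨y, hy⟩
  obtain ⟨k, rfl⟩ := Subgroup.mem_zpowers_iff.mp hy
  refine ⟨1, Subtype.ext ?_⟩
  simp only [pow_one, Subgroup.coe_pow, Subgroup.coe_one]
  rw [← zpow_natCast, ← zpow_mul, mul_comm, zpow_mul, zpow_natCast, h, one_zpow]

end Cfsg.Agent.Lib.Helper16
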